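import Groth.Agent.SmoothWeilLib.Param
import Groth.Agent.GrpSchLib.MonoSubgroup
import Groth.Agent.AlgSpPts.Sep
import Groth.Prelude.Def_Red2

/-!
# Transporters, centralizers and normalizers of smooth subgroups with connected fibres
-/

universe u

open CategoryTheory CategoryTheory.Limits MonoidalCategory CartesianMonoidalCategory MonObj GrpObj AlgebraicGeometry

noncomputable section

namespace Groth.Agent.SmoothWeilLib

variable {S : Scheme.{u}} {G H : Over S} [GrpObj G] [GrpObj H]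

/-- The intersection of two closed subschemes of finite presentation. -/
theorem exists_inter {T₁ T₂ : Over S} (c₁ : T₁ ⟶ G) (c₂ : T₂ ⟶ G) [IsClosedImmersion c₁.left]
    [LocallyOfFinitePresentation c₁.left] [IsClosedImmersion c₂.left] [LocallyOfFinitePresentation c₂.left] :
    ∃ (T : Over S) (j : T ⟶ G), IsClosedImmersion j.left ∧ LocallyOfFinitePresentation j.left ∧
      ∀ (X : Over S) (g : X ⟶ G), (∃ t : X ⟶ T, t ≫ j = g) ↔
        (∃ t : X ⟶ T₁, t ≫ c₁ = g) ∧ (∃ t : X ⟶ T₂, t ≫ c₂ = g) := by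
  refine ⟨Over.mk ((pullback.fst c₁.left c₂.left ≫ c₁.left) ≫ G.hom),
    Over.homMk (pullback.fst c₁.left c₂.left ≫ c₁.left) rfl,
    inferInstanceAs (IsClosedImmersion (pullback.fst c₁.left c₂.left ≫ c₁.left)),
    inferInstanceAs (LocallyOfFinitePresentation (pullback.fst c₁.left c₂.left ≫ c₁.left)), fun X g => ⟨?_, ?_⟩⟩
  · rintro ⟨t, rfl⟩
    have hc : (t.left ≫ pullback.snd c₁.left c₂.left) ≫ c₂.left = t.left ≫ pullback.fst c₁.left c₂.left ≫ c₁.left := by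
      exact (Category.assoc _ _ _).trans (congrArg (t.left ≫ ·) pullback.condition.symm)
    refine ⟨⟨Over.homMk (t.left ≫ pullback.fst c₁.left c₂.left) ?_, Over.OverMorphism.ext (Category.assoc _ _ _)⟩,
      ⟨Over.homMk (t.left ≫ pullback.snd c₁.left c₂.left) ?_, Over.OverMorphism.ext hc⟩⟩
    · exact (Category.assoc _ _ _).trans ((congrArg (t.left ≫ ·) ((congrArg (pullback.fst _ _ ≫ ·)
        (Over.w c₁).symm).trans (Category.assoc _ _ _).symm)).trans (Over.w t))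
    · rw [← Over.w c₂, ← Category.assoc, hc]
      exact (Category.assoc _ _ _).trans (Over.w t)
  · rintro ⟨⟨a, ha⟩, ⟨b, hb⟩⟩
    have hab : a.left ≫ c₁.left = b.left ≫ c₂.left := congrArg CommaMorphism.left (ha.trans hb.symm)
    refine ⟨Over.homMk (pullback.lift a.left b.left hab) ?_, Over.OverMorphism.ext ?_⟩
    · show _ ≫ (pullback.fst c₁.left c₂.left ≫ c₁.left) ≫ G.hom = _
      rw [Category.assoc, Over.w c₁, pullback.lift_fst_assoc, Over.w a]
    · show pullback.lift a.left b.left hab ≫ pullback.fst c₁.left c₂.left ≫ c₁.left = g.left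
      rw [pullback.lift_fst_assoc, ← Over.comp_left, ha]

/-- Conjugation of the subgroup by a point, as a family of homomorphisms. -/
def conjMap (i : H ⟶ G) : H ⊗ G ⟶ G := snd H G * (fst H G ≫ i) * (snd H G)⁻¹

theorem lift_conjMap (i : H ⟶ G) {T : Over S} (a : T ⟶ H) (p : T ⟶ G) :
    lift a p ≫ conjMap i = p * (a ≫ i) * p⁻¹ := by
  rw [conjMap, MonObj.comp_mul, MonObj.comp_mul, GrpObj.comp_inv, lift_snd, lift_fst_assoc]

/-- Inverse conjugation of the subgroup by a point. -/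
def conjMap' (i : H ⟶ G) : H ⊗ G ⟶ G := (snd H G)⁻¹ * (fst H G ≫ i) * snd H G

theorem lift_conjMap' (i : H ⟶ G) {T : Over S} (a : T ⟶ H) (p : T ⟶ G) :
    lift a p ≫ conjMap' i = p⁻¹ * (a ≫ i) * p := by
  rw [conjMap', MonObj.comp_mul, MonObj.comp_mul, GrpObj.comp_inv, lift_snd, lift_fst_assoc]

variable [Smooth H.hom] (hconn : ∀ s : S, _root_.IsConnected (H.hom ⁻¹' {s})) (i : H ⟶ G) [IsMonHom i]

include hconn

/-- The strict transporter of a smooth subgroup with connected fibres. -/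
theorem exists_transporter {K : Over S} [GrpObj K] (j : K ⟶ G) [IsMonHom j] [Mono j]
    [LocallyOfFinitePresentation j.left] :
    ∃ (T : Over S) (t : T ⟶ G), IsClosedImmersion t.left ∧ LocallyOfFinitePresentation t.left ∧
      ∀ (X : Over S) (g : X ⟶ G), (∃ x : X ⟶ T, x ≫ t = g) ↔
        ∀ (X' : Over S) (x : X' ⟶ X) (h : X' ⟶ H), ∃ κ : X' ⟶ K, (x ≫ g) * (h ≫ i) * (x ≫ g)⁻¹ = κ ≫ j := by
  obtain ⟨T, t, h₁, h₂, hT⟩ := exists_weil_param hconn (conjMap i) j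
    (fun T p => ⟨1, by rw [lift_conjMap, MonObj.one_comp, MonObj.one_comp]; group⟩)
    (fun T a b p ⟨ca, ha⟩ ⟨cb, hb⟩ => ⟨ca * cb, by
      rw [MonObj.mul_comp, ha, hb, lift_conjMap, lift_conjMap, lift_conjMap, MonObj.mul_comp]; group⟩)
  refine ⟨T, t, h₁, h₂, fun X g => (hT X g).trans ⟨fun ⟨l, hl⟩ X' x h => ⟨lift h x ≫ l, ?_⟩, fun h => ?_⟩⟩
  · rw [Category.assoc, hl, lift_whiskerLeft_assoc, lift_conjMap]
  · obtain ⟨κ, hκ⟩ := h (H ⊗ X) (snd H X) (fst H X)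
    refine ⟨κ, hκ.symm.trans ?_⟩
    rw [← lift_conjMap, ← lift_whiskerLeft_assoc, lift_fst_snd, Category.id_comp]

theorem exists_transporter' {K : Over S} [GrpObj K] (j : K ⟶ G) [IsMonHom j] [Mono j]
    [LocallyOfFinitePresentation j.left] :
    ∃ (T : Over S) (t : T ⟶ G), IsClosedImmersion t.left ∧ LocallyOfFinitePresentation t.left ∧
      ∀ (X : Over S) (g : X ⟶ G), (∃ x : X ⟶ T, x ≫ t = g) ↔
        ∀ (X' : Over S) (x : X' ⟶ X) (h : X' ⟶ H), ∃ κ : X' ⟶ K, (x ≫ g)⁻¹ * (h ≫ i) * (x ≫ g) = κ ≫ j := by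
  obtain ⟨T, t, h₁, h₂, hT⟩ := exists_weil_param hconn (conjMap' i) j
    (fun T p => ⟨1, by rw [lift_conjMap', MonObj.one_comp, MonObj.one_comp]; group⟩)
    (fun T a b p ⟨ca, ha⟩ ⟨cb, hb⟩ => ⟨ca * cb, by
      rw [MonObj.mul_comp, ha, hb, lift_conjMap', lift_conjMap', lift_conjMap', MonObj.mul_comp]; group⟩)
  refine ⟨T, t, h₁, h₂, fun X g => (hT X g).trans ⟨fun ⟨l, hl⟩ X' x h => ⟨lift h x ≫ l, ?_⟩, fun h => ?_⟩⟩
  · rw [Category.assoc, hl, lift_whiskerLeft_assoc, lift_conjMap']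
  · obtain ⟨κ, hκ⟩ := h (H ⊗ X) (snd H X) (fst H X)
    refine ⟨κ, hκ.symm.trans ?_⟩
    rw [← lift_conjMap', ← lift_whiskerLeft_assoc, lift_fst_snd, Category.id_comp]

/-- The centralizer of a smooth subgroup with connected fibres is a closed subgroup of finite presentation. -/
theorem exists_centralizer [LocallyOfFiniteType G.hom] :
    ∃ (Z : Over S) (_ : GrpObj Z) (j : Z ⟶ G), Red.IsCentralizerOf i j ∧ IsClosedImmersion j.left ∧
      LocallyOfFinitePresentation j.left := by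
  let δ : G ⟶ G ⊗ G := lift (𝟙 G) (𝟙 G)
  haveI : Mono δ := mono_of_mono_fac (show δ ≫ fst G G = 𝟙 G from lift_fst _ _)
  haveI : LocallyOfFiniteType (fst G G).left := inferInstanceAs (LocallyOfFiniteType (pullback.fst G.hom G.hom))
  haveI : LocallyOfFinitePresentation δ.left :=
    haveI : LocallyOfFinitePresentation (δ.left ≫ (fst G G).left) := by
      rw [← Over.comp_left, lift_fst]; exact inferInstanceAs (LocallyOfFinitePresentation (𝟙 G.left))
    AlgSpPts.locallyOfFinitePresentation_of_comp δ.left (fst G G).left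
  have hiff : ∀ {T : Over S} (a b : T ⟶ G), (∃ c : T ⟶ G, c ≫ δ = lift a b) ↔ a = b := fun {T} a b => by
    constructor
    · rintro ⟨c, hc⟩
      have h1 := congrArg (· ≫ fst G G) hc
      have h2 := congrArg (· ≫ snd G G) hc
      simp [δ] at h1 h2
      exact h1.symm.trans h2
    · rintro rfl
      exact ⟨a, by simp [δ]⟩
  let φ : H ⊗ G ⟶ G ⊗ G := lift (conjMap i) (fst H G ≫ i)
  have hφ : ∀ {T : Over S} (a : T ⟶ H) (p : T ⟶ G), lift a p ≫ φ = lift (p * (a ≫ i) * p⁻¹) (a ≫ i) := fun a p => by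
    rw [comp_lift, lift_conjMap, lift_fst_assoc]
  obtain ⟨Z, j, hj, hjf, hZ'⟩ := exists_weil_param hconn φ δ
    (fun T p => by rw [hφ, hiff, MonObj.one_comp]; group)
    (fun T a b p ha hb => by
      rw [hφ, hiff] at ha hb ⊢
      calc p * ((a * b) ≫ i) * p⁻¹ = (p * (a ≫ i) * p⁻¹) * (p * (b ≫ i) * p⁻¹) := by rw [MonObj.mul_comp]; group
        _ = (a * b) ≫ i := by rw [ha, hb, MonObj.mul_comp])
  have hZ : ∀ (X : Over S) (g : X ⟶ G), (∃ z : X ⟶ Z, z ≫ j = g) ↔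
      ∀ (X' : Over S) (x : X' ⟶ X) (h : X' ⟶ H), Commute (x ≫ g) (h ≫ i) := fun X g => by
    refine (hZ' X g).trans ⟨fun ⟨l, hl⟩ X' x h => ?_, fun h => ?_⟩
    · have := (hiff _ _).mp ⟨lift h x ≫ l, (by rw [Category.assoc, hl, lift_whiskerLeft_assoc, hφ] :
        (lift h x ≫ l) ≫ δ = _)⟩
      exact mul_inv_eq_iff_eq_mul.mp this
    · obtain ⟨c, hc⟩ := (hiff _ _).mpr (mul_inv_eq_iff_eq_mul.mpr (h (H ⊗ X) (snd H X) (fst H X)))
      refine ⟨c, hc.trans ?_⟩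
      rw [← hφ, ← lift_whiskerLeft_assoc, lift_fst_snd, Category.id_comp]
  haveI : IsClosedImmersion j.left := hj
  haveI : Mono j := (Over.forget _).mono_of_mono_map (inferInstanceAs (Mono j.left))
  have hjc : ∀ {X : Over S} (z : X ⟶ Z) (X' : Over S) (x : X' ⟶ X) (a : X' ⟶ H),
      Commute (x ≫ z ≫ j) (a ≫ i) := fun z => (hZ _ _).mp ⟨z, rfl⟩
  obtain ⟨e', he'⟩ := (hZ _ η[G]).mpr fun X' x a => by
    rw [show x ≫ η[G] = (1 : X' ⟶ G) by rw [Hom.one_def, toUnit_unique x (toUnit _)]]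
    exact Commute.one_left _
  obtain ⟨m', hm'⟩ := (hZ _ ((fst Z Z ≫ j) * (snd Z Z ≫ j))).mpr fun X' x a => by
    rw [MonObj.comp_mul]
    exact (hjc (fst Z Z) X' x a).mul_left (hjc (snd Z Z) X' x a)
  obtain ⟨v', hv'⟩ := (hZ _ j⁻¹).mpr fun X' x a => by
    rw [GrpObj.comp_inv]
    have := hjc (𝟙 Z) X' x a
    rw [Category.id_comp] at this
    exact this.inv_left
  obtain ⟨str, hstr⟩ := GrpSchLib.exists_grpObj_of_mono j e' he' m' hm' v' hv'
  exact ⟨Z, str, j, ⟨hstr, ‹Mono j›, hZ⟩, hj, hjf⟩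

/-- The normalizer of a smooth subgroup with connected fibres is a closed subgroup of finite presentation. -/
theorem exists_normalizer [Mono i] [LocallyOfFiniteType G.hom] :
    ∃ (N : Over S) (_ : GrpObj N) (j : N ⟶ G), Red.IsNormalizerOf i j ∧ IsClosedImmersion j.left ∧
      LocallyOfFinitePresentation j.left := by
  haveI : LocallyOfFinitePresentation i.left :=
    haveI : LocallyOfFinitePresentation (i.left ≫ G.hom) := by rw [Over.w i]; infer_instance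
    AlgSpPts.locallyOfFinitePresentation_of_comp i.left G.hom
  obtain ⟨T₁, c₁, hc₁, hf₁, hT₁⟩ := exists_transporter hconn i i
  obtain ⟨T₂, c₂, hc₂, hf₂, hT₂⟩ := exists_transporter' hconn i i
  obtain ⟨N, j, hj, hjf, hN'⟩ := exists_inter c₁ c₂
  have hN : ∀ (X : Over S) (g : X ⟶ G), (∃ z : X ⟶ N, z ≫ j = g) ↔
      ∀ (X' : Over S) (x : X' ⟶ X) (h : X' ⟶ H),
        (∃ h' : X' ⟶ H, (x ≫ g) * (h ≫ i) * (x ≫ g)⁻¹ = h' ≫ i) ∧
        (∃ h' : X' ⟶ H, (x ≫ g)⁻¹ * (h ≫ i) * (x ≫ g) = h' ≫ i) := fun X g => by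
    rw [hN', hT₁, hT₂]
    exact ⟨fun h X' x a => ⟨h.1 X' x a, h.2 X' x a⟩, fun h => ⟨fun X' x a => (h X' x a).1, fun X' x a => (h X' x a).2⟩⟩
  haveI : IsClosedImmersion j.left := hj
  haveI : Mono j := (Over.forget _).mono_of_mono_map (inferInstanceAs (Mono j.left))
  obtain ⟨e', he'⟩ := (hN _ η[G]).mpr fun X' x a => by
    rw [show x ≫ η[G] = (1 : X' ⟶ G) by rw [Hom.one_def, toUnit_unique x (toUnit _)]]
    exact ⟨⟨a, by group⟩, ⟨a, by group⟩⟩
  obtain ⟨m', hm'⟩ := (hN _ ((fst N N ≫ j) * (snd N N ≫ j))).mpr fun X' x a => by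
    have h1 := (hN _ _).mp ⟨x ≫ fst N N, rfl⟩ X' (𝟙 _)
    have h2 := (hN _ _).mp ⟨x ≫ snd N N, rfl⟩ X' (𝟙 _)
    simp only [Category.id_comp] at h1 h2
    simp only [MonObj.comp_mul, ← Category.assoc]
    constructor
    · obtain ⟨b, hb⟩ := (h2 a).1
      obtain ⟨c, hc⟩ := (h1 b).1
      exact ⟨c, by rw [← hc, ← hb]; group⟩
    · obtain ⟨b, hb⟩ := (h1 a).2
      obtain ⟨c, hc⟩ := (h2 b).2
      exact ⟨c, by rw [← hc, ← hb]; group⟩
  obtain ⟨v', hv'⟩ := (hN _ j⁻¹).mpr fun X' x a => by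
    have h := (hN _ _).mp ⟨𝟙 N, rfl⟩ X' x a
    simp only [Category.id_comp] at h
    simp only [GrpObj.comp_inv, _root_.inv_inv]
    exact ⟨h.2, h.1⟩
  obtain ⟨str, hstr⟩ := GrpSchLib.exists_grpObj_of_mono j e' he' m' hm' v' hv'
  exact ⟨N, str, j, ⟨hstr, ‹Mono j›, hN⟩, hj, hjf⟩

end Groth.Agent.SmoothWeilLib
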