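import Groth.Agent.SmoothWeilLib.GroupWeil
import Mathlib.AlgebraicGeometry.Fiber

/-!
# Weil restriction of subgroups: scheme-theoretic connectedness of fibres
-/

universe u

open CategoryTheory CategoryTheory.Limits AlgebraicGeometry

namespace Groth.Agent.SmoothWeilLib

theorem isConnected_preimage {S : Scheme.{u}} {X : Scheme.{u}} (f : X ⟶ S) (s : S)
    [h : ConnectedSpace ↥(Limits.pullback f (S.fromSpecResidueField s))] : _root_.IsConnected (f ⁻¹' {s}) := by
  haveI : ConnectedSpace ↥(f.fiber s) := h
  rw [isConnected_iff_connectedSpace]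
  exact (f.fiberHomeo s).surjective.connectedSpace (f.fiberHomeo s).continuous

/-- `Good` in terms of the pullback with the map on the left. -/
theorem good_iff_fst {P X E T : Scheme.{u}} (π : P ⟶ X) (i : E ⟶ P) (g : T ⟶ X) :
    GrpSchLib.Good π i g ↔ ∃ l : pullback π g ⟶ E, l ≫ i = pullback.fst π g := by
  constructor
  · rintro ⟨l, hl⟩
    exact ⟨(pullbackSymmetry π g).hom ≫ l, by rw [Category.assoc, hl, pullbackSymmetry_hom_comp_snd]⟩
  · rintro ⟨l, hl⟩
    exact ⟨(pullbackSymmetry g π).hom ≫ l, by rw [Category.assoc, hl, pullbackSymmetry_hom_comp_fst]⟩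

theorem exists_lift_iff_isIso {S S' : Scheme.{u}} (g : S' ⟶ S) {X Y : Over S} (i : Y ⟶ X) [Mono i.left] :
    (∃ l : pullback X.hom g ⟶ Y.left, l ≫ i.left = pullback.fst X.hom g) ↔ IsIso ((Over.pullback g).map i) := by
  constructor
  · rintro ⟨l, hl⟩
    have hlY : l ≫ Y.hom = pullback.snd X.hom g ≫ g := by
      rw [← Over.w i, ← Category.assoc, hl, pullback.condition]
    let q : (Over.pullback g).obj X ⟶ (Over.pullback g).obj Y :=
      Over.homMk (pullback.lift l (pullback.snd X.hom g) hlY) (pullback.lift_snd _ _ _)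
    have hq : q ≫ (Over.pullback g).map i = 𝟙 _ := by
      refine Over.OverMorphism.ext (pullback.hom_ext ?_ ?_)
      · exact (Category.assoc _ _ _).trans ((congrArg (pullback.lift l (pullback.snd X.hom g) hlY ≫ ·)
          (pullback.lift_fst _ _ _)).trans ((pullback.lift_fst_assoc _ _ _ _).trans (hl.trans (Category.id_comp _).symm)))
      · exact (Category.assoc _ _ _).trans ((congrArg (pullback.lift l (pullback.snd X.hom g) hlY ≫ ·)
          (pullback.lift_snd _ _ _)).trans ((pullback.lift_snd _ _ _).trans (Category.id_comp _).symm))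
    haveI : IsSplitEpi ((Over.pullback g).map i) := ⟨⟨⟨q, hq⟩⟩⟩
    haveI : Mono i := (Over.forget S).mono_of_mono_map (inferInstanceAs (Mono i.left))
    exact isIso_of_mono_of_isSplitEpi _
  · intro h
    refine ⟨(inv ((Over.pullback g).map i)).left ≫ pullback.fst Y.hom g, ?_⟩
    have h1 : ((Over.pullback g).map i).left ≫ pullback.fst X.hom g = pullback.fst Y.hom g ≫ i.left :=
      pullback.lift_fst _ _ _
    rw [Category.assoc, ← h1, ← Over.comp_left_assoc, IsIso.inv_hom_id, Over.id_left, Category.id_comp]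

end Groth.Agent.SmoothWeilLib
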