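import Groth.Agent.GrpSchLib.GeomIrr
import Groth.Agent.GrpSchLib.SmoothRegular
import Groth.Agent.GrpSchLib.SmoothReduced
import Groth.Agent.RegLoc6.Basic
import Groth.Agent.H23.FinCondSch
import Groth.Prelude.Def_Red

/-!
# Smooth morphisms with connected geometric fibres
-/

universe u

open CategoryTheory CategoryTheory.Limits AlgebraicGeometry

namespace Groth.Agent.SmoothWeilLib

/-- A smooth morphism with connected geometric fibres is geometrically irreducible. -/
theorem geometricallyIrreducible {S X : Scheme.{u}} (f : X ⟶ S) [Smooth f]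
    (hconn : ∀ s : S, ConnectedSpace ↥(Limits.pullback f (Red.geomPt s))) : GeometricallyIrreducible f := by
  rw [GeometricallyIrreducible.iff_geometricallyIrreducible_fiber]
  intro s
  refine GrpSchLib.geometricallyIrreducible_of_algClosure (K := S.residueField s) _ ?_
  let g := Spec.map (CommRingCat.ofHom (algebraMap (S.residueField s) (AlgebraicClosure (S.residueField s))))
  let P := pullback f (Red.geomPt s)
  haveI : ConnectedSpace ↥P := hconn s
  haveI : Smooth (pullback.snd f (Red.geomPt s)) := inferInstance
  haveI : IsLocallyNoetherian P := LocallyOfFiniteType.isLocallyNoetherian (pullback.snd f (Red.geomPt s))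
  haveI : IsIntegral P := H23.FinCondSch.isIntegral_iff.mpr ⟨inferInstance, fun x =>
    haveI := GrpSchLib.isRegularLocalRing_stalk_of_smooth (pullback.snd f (Red.geomPt s)) x
    RegLoc6.isDomain_of_isRegularLocalRing _⟩
  let e : pullback (f.fiberToSpecResidueField s) g ≅ P := pullbackLeftPullbackSndIso f (S.fromSpecResidueField s) g
  exact e.hom.homeomorph.irreducibleSpace_iff.mpr inferInstance

open TensorProduct in
/-- The fibres of an affine chart of a smooth morphism with irreducible fibres are integral. -/
theorem noZeroDivisors_fibre {S X : Scheme.{u}} (f : X ⟶ S) [Smooth f] [GeometricallyIrreducible f]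
    {C B : Type u} [CommRing C] [CommRing B] [Algebra C B] (c : Spec (CommRingCat.of C) ⟶ S)
    (v : Spec (CommRingCat.of B) ⟶ Limits.pullback c f) [IsOpenImmersion v]
    (hv : v ≫ pullback.fst c f = Spec.map (CommRingCat.ofHom (algebraMap C B)))
    (K : Type u) [Field K] [Algebra C K] : NoZeroDivisors (K ⊗[C] B) := by
  rcases subsingleton_or_nontrivial (K ⊗[C] B) with h | h
  · exact ⟨fun {a b} _ => Or.inl (Subsingleton.elim _ _)⟩
  let κ := Spec.map (CommRingCat.ofHom (algebraMap C K))
  let T := Spec (CommRingCat.of (K ⊗[C] B))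
  let iL : T ⟶ Spec (CommRingCat.of K) :=
    Spec.map (CommRingCat.ofHom (Algebra.TensorProduct.includeLeftRingHom (R := C) (A := K) (B := B)))
  let iR : T ⟶ Spec (CommRingCat.of B) :=
    Spec.map (CommRingCat.ofHom (Algebra.TensorProduct.includeRight (R := C) (A := K) (B := B)).toRingHom)
  have hsq : IsPullback iR iL (Spec.map (CommRingCat.ofHom (algebraMap C B))) κ :=
    (isPullback_SpecMap_of_isPushout _ _ _ _ (CommRingCat.isPushout_tensorProduct C K B)).flip
  let P := pullback (κ ≫ c) f
  let q : P ⟶ pullback c f := pullback.map (κ ≫ c) f c f κ (𝟙 X) (𝟙 S) (by simp) (by simp)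
  have hq1 : q ≫ pullback.fst c f = pullback.fst (κ ≫ c) f ≫ κ := pullback.lift_fst _ _ _
  have hq2 : q ≫ pullback.snd c f = pullback.snd (κ ≫ c) f := (pullback.lift_snd _ _ _).trans (Category.comp_id _)
  have hb : IsPullback q (pullback.fst (κ ≫ c) f) (pullback.fst c f) κ :=
    IsPullback.of_right (by rw [hq2]; exact (IsPullback.of_hasPullback (κ ≫ c) f).flip) hq1
      (IsPullback.of_hasPullback c f).flip
  let VC : T ⟶ P := hb.lift (iR ≫ v) iL (by rw [Category.assoc, hv]; exact hsq.w)
  have hVf : VC ≫ pullback.fst (κ ≫ c) f = iL := hb.lift_snd _ _ _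
  have htop : IsPullback iR VC v q := by
    refine IsPullback.of_bot ?_ (hb.lift_fst _ _ _).symm hb
    rw [hVf, hv]
    exact hsq
  haveI : IsOpenImmersion VC := MorphismProperty.of_isPullback (P := @IsOpenImmersion) htop ‹IsOpenImmersion v›
  haveI : Smooth iL := by rw [← hVf]; infer_instance
  haveI : AlgebraicGeometry.IsReduced T := GrpSchLib.isReduced_of_smooth_field iL
  haveI : IrreducibleSpace ↥P := inferInstance
  haveI : Nonempty T := inferInstanceAs (Nonempty (PrimeSpectrum (K ⊗[C] B)))
  have hr : IsIrreducible (Set.range VC) := ⟨Set.range_nonempty _,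
    (PreirreducibleSpace.isPreirreducible_univ).open_subset VC.isOpenEmbedding.isOpen_range (Set.subset_univ _)⟩
  haveI : IrreducibleSpace ↥(VC.opensRange : Scheme.{u}) := Subtype.irreducibleSpace hr
  haveI : IrreducibleSpace T := VC.isoOpensRange.hom.homeomorph.irreducibleSpace_iff.mpr inferInstance
  haveI : IsIntegral T := isIntegral_of_irreducibleSpace_of_isReduced T
  haveI : IsDomain (K ⊗[C] B) := by
    have := (affine_isIntegral_iff (CommRingCat.of (K ⊗[C] B))).mp ‹IsIntegral T›
    exact this
  infer_instance

end Groth.Agent.SmoothWeilLib
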