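import Groth.Agent.SmoothWeilLib.Taylor
import Groth.Agent.GrpSchLib.Content
import Mathlib.LinearAlgebra.TensorProduct.RightExactness

/-!
# The ideal of vanishing near a section

For a section of a smooth algebra and finitely many elements, the base changes after which the elements vanish near the
section are those killing a finitely generated ideal of the base.
-/

universe u

open TensorProduct

namespace Groth.Agent.SmoothWeilLib

variable {A E : Type u} [CommRing A] [CommRing E] [Algebra A E]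

/-- The base change of a section. -/
noncomputable def bcSec (ε : E →ₐ[A] A) (C : Type u) [CommRing C] [Algebra A C] : C ⊗[A] E →ₐ[C] C :=
  Algebra.TensorProduct.lift (AlgHom.id C C) ((Algebra.ofId A C).comp ε) fun _ _ => Commute.all _ _

@[simp]
theorem bcSec_tmul (ε : E →ₐ[A] A) (C : Type u) [CommRing C] [Algebra A C] (c : C) (x : E) :
    bcSec ε C (c ⊗ₜ x) = c * algebraMap A C (ε x) := by
  simp [bcSec, Algebra.ofId_apply]

theorem ker_bcSec (ε : E →ₐ[A] A) (C : Type u) [CommRing C] [Algebra A C] :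
    RingHom.ker (bcSec ε C) =
      (RingHom.ker ε).map (Algebra.TensorProduct.includeRight : E →ₐ[A] C ⊗[A] E) := by
  apply le_antisymm
  · have h : ∀ w : C ⊗[A] E, w - algebraMap C (C ⊗[A] E) (bcSec ε C w) ∈
        (RingHom.ker ε).map (Algebra.TensorProduct.includeRight : E →ₐ[A] C ⊗[A] E) := fun w => by
      induction w using TensorProduct.induction_on with
      | zero => simp
      | add p q hp hq =>
        simp only [map_add, add_sub_add_comm]
        exact add_mem hp hq
      | tmul c x =>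
        have hx : x - algebraMap A E (ε x) ∈ RingHom.ker ε := by
          rw [RingHom.mem_ker, map_sub, AlgHom.commutes, Algebra.algebraMap_self, RingHom.id_apply, sub_self]
        have e : c ⊗ₜ[A] x - algebraMap C (C ⊗[A] E) (bcSec ε C (c ⊗ₜ x)) =
            (c ⊗ₜ[A] (1 : E)) *
              (Algebra.TensorProduct.includeRight : E →ₐ[A] C ⊗[A] E) (x - algebraMap A E (ε x)) := by
          rw [bcSec_tmul, map_sub, AlgHom.commutes, mul_sub]
          simp [Algebra.TensorProduct.algebraMap_apply]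
        rw [e]
        exact Ideal.mul_mem_left _ _ (Ideal.mem_map_of_mem _ hx)
    intro w hw
    have := h w
    rwa [RingHom.mem_ker.mp hw, map_zero, sub_zero] at this
  · rw [Ideal.map_le_iff_le_comap]
    intro x hx
    simp [RingHom.mem_ker, RingHom.mem_ker.mp hx]

/-- The ideal of vanishing near a section, for one element. -/
theorem exists_ideal [Algebra.Smooth A E] (ε : E →ₐ[A] A) (x : E) :
    ∃ c : Ideal A, c.FG ∧ ∀ (C : Type u) [CommRing C] [Algebra A C],
      c ≤ RingHom.ker (algebraMap A C) ↔ ∃ u, bcSec ε C u = 1 ∧ u * ((1 : C) ⊗ₜ[A] x) = 0 := by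
  classical
  haveI := fun n => projective_quot ε n
  choose I hI using fun n =>
    GrpSchLib.exists_contentIdeal_of_projective (A := A) ({Ideal.Quotient.mk (RingHom.ker ε ^ n) x} : Set _)
  let c : Ideal A := ⨆ n, I n
  have key : ∀ (C : Type u) [CommRing C] [Algebra A C],
      c ≤ RingHom.ker (algebraMap A C) ↔ ∃ u, bcSec ε C u = 1 ∧ u * ((1 : C) ⊗ₜ[A] x) = 0 := by
    intro C _ _
    let π : ∀ n, C ⊗[A] E →ₐ[A] C ⊗[A] (E ⧸ RingHom.ker ε ^ n) := fun n =>
      Algebra.TensorProduct.map (AlgHom.id A C) (Ideal.Quotient.mkₐ A _)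
    have hker : ∀ n, RingHom.ker (π n) = RingHom.ker (bcSec ε C) ^ n := fun n => by
      rw [Algebra.TensorProduct.lTensor_ker _ (Ideal.Quotient.mkₐ_surjective A _), show RingHom.ker (Ideal.Quotient.mkₐ A (RingHom.ker ε ^ n)) = RingHom.ker ε ^ n from Ideal.mk_ker,
        ker_bcSec, ← Ideal.map_pow]
    constructor
    · intro hc
      obtain ⟨u, hu, hux⟩ := exists_kills (bcSec ε C) ((1 : C) ⊗ₜ[A] x) fun n => by
        rw [← hker, RingHom.mem_ker]
        have := (hI n C).mpr ((le_iSup I n).trans hc) _ rfl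
        simpa [π] using this
      exact ⟨u, hu, hux⟩
    · rintro ⟨u, hu, hux⟩
      refine iSup_le fun n => (hI n C).mp ?_
      rintro _ rfl
      have hn : IsNilpotent (π n (1 - u)) := by
        refine ⟨n, ?_⟩
        rw [← map_pow, ← RingHom.mem_ker, hker]
        exact Ideal.pow_mem_pow (by rw [RingHom.mem_ker, map_sub, map_one, hu, sub_self]) n
      have hunit : IsUnit (π n u) := by
        have := hn.isUnit_one_sub
        rwa [map_sub, map_one, sub_sub_cancel] at this
      have h0 : π n u * π n ((1 : C) ⊗ₜ[A] x) = 0 := by rw [← map_mul, hux, map_zero]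
      simpa [π] using hunit.mul_right_eq_zero.mp h0
  refine ⟨c, ?_, key⟩
  obtain ⟨u, hu, hux⟩ := (key (A ⧸ c)).mp (by rw [Ideal.Quotient.algebraMap_eq, Ideal.mk_ker])
  obtain ⟨u₀, rfl⟩ : ∃ u₀ : E, (1 : A ⧸ c) ⊗ₜ[A] u₀ = u :=
    Algebra.TensorProduct.includeRight_surjective E (R := A) (S := A ⧸ c) Ideal.Quotient.mk_surjective u
  rw [Algebra.TensorProduct.tmul_mul_tmul, one_mul, GrpSchLib.one_tmul_eq_zero_iff] at hux
  obtain ⟨K, hKfg, hKc, hK⟩ := GrpSchLib.exists_fg_le_of_mem_smul c hux
  have hεu : ε u₀ - 1 ∈ c := by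
    rw [← Ideal.Quotient.eq_zero_iff_mem, map_sub, map_one, sub_eq_zero]
    simpa using hu
  let K' := K ⊔ Ideal.span {ε u₀ - 1}
  have hle : c ≤ K' := by
    have h := (key (A ⧸ K')).mpr ⟨1 ⊗ₜ u₀, ?_, ?_⟩
    · rwa [Ideal.Quotient.algebraMap_eq, Ideal.mk_ker] at h
    · rw [bcSec_tmul, one_mul, Ideal.Quotient.algebraMap_eq, ← map_one (Ideal.Quotient.mk K'), Ideal.Quotient.eq]
      exact Ideal.mem_sup_right (Ideal.mem_span_singleton_self _)
    · rw [Algebra.TensorProduct.tmul_mul_tmul, one_mul, GrpSchLib.one_tmul_eq_zero_iff]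
      exact Submodule.smul_mono_left le_sup_left hK
  have : c = K' := le_antisymm hle (sup_le hKc ((Ideal.span_singleton_le_iff_mem _).mpr hεu))
  rw [this]
  exact Submodule.FG.sup hKfg (Submodule.fg_span_singleton _)

/-- The ideal of vanishing near a section. -/
theorem exists_ideal_finset [Algebra.Smooth A E] (ε : E →ₐ[A] A) (s : Finset E) :
    ∃ c : Ideal A, c.FG ∧ ∀ (C : Type u) [CommRing C] [Algebra A C],
      c ≤ RingHom.ker (algebraMap A C) ↔ ∃ u, bcSec ε C u = 1 ∧ ∀ x ∈ s, u * ((1 : C) ⊗ₜ[A] x) = 0 := by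
  classical
  choose c hfg hc using exists_ideal ε
  refine ⟨s.sup c, Submodule.fg_finset_sup _ _ fun x _ => hfg x, fun C _ _ => ?_⟩
  rw [Finset.sup_le_iff]
  constructor
  · intro h
    choose u hu hux using fun x : {x // x ∈ s} => (hc x.1 C).mp (h x.1 x.2)
    refine ⟨∏ x : {x // x ∈ s}, u x, by simp [hu], fun x hx => ?_⟩
    rw [← Finset.prod_erase_mul _ u (Finset.mem_univ ⟨x, hx⟩), mul_assoc, hux, mul_zero]
  · rintro ⟨u, hu, hux⟩ x hx
    exact (hc x C).mpr ⟨u, hu, hux x hx⟩

end Groth.Agent.SmoothWeilLib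

namespace Groth.Agent.SmoothWeilLib

/-- The ideal of vanishing near a section with values in an algebra. -/
theorem exists_ideal_rel {A E A' : Type u} [CommRing A] [CommRing E] [Algebra A E] [Algebra.Smooth A E]
    [CommRing A'] [Algebra A A'] (ε : E →ₐ[A] A') (s : Finset E) :
    ∃ c : Ideal A', c.FG ∧ ∀ (C : Type u) [CommRing C] [Algebra A' C] [Algebra A C] [IsScalarTower A A' C],
      c ≤ RingHom.ker (algebraMap A' C) ↔ ∃ u : C ⊗[A] E,
        Algebra.TensorProduct.lift (AlgHom.id C C) ((IsScalarTower.toAlgHom A A' C).comp ε)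
          (fun _ _ => Commute.all _ _) u = 1 ∧ ∀ x ∈ s, u * ((1 : C) ⊗ₜ[A] x) = 0 := by
  classical
  let ε' : A' ⊗[A] E →ₐ[A'] A' := Algebra.TensorProduct.lift (AlgHom.id A' A') ε fun _ _ => Commute.all _ _
  obtain ⟨c, hfg, hc⟩ := exists_ideal_finset ε' (s.image fun x => (1 : A') ⊗ₜ[A] x)
  refine ⟨c, hfg, fun C _ _ _ _ => ?_⟩
  let e := Algebra.TensorProduct.cancelBaseChange A A' C C E
  have he : ∀ u, Algebra.TensorProduct.lift (AlgHom.id C C) ((IsScalarTower.toAlgHom A A' C).comp ε)
      (fun _ _ => Commute.all _ _) (e u) = bcSec ε' C u := fun u => by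
    induction u using TensorProduct.induction_on with
    | zero => simp
    | add p q hp hq => simp only [map_add, hp, hq]
    | tmul r z =>
      induction z using TensorProduct.induction_on with
      | zero => simp
      | add p q hp hq => simp only [TensorProduct.tmul_add, map_add, hp, hq]
      | tmul a x => simp [e, ε', Algebra.smul_def, mul_comm, mul_assoc, mul_left_comm]
  have he1 : ∀ x : E, e ((1 : C) ⊗ₜ[A'] ((1 : A') ⊗ₜ[A] x)) = (1 : C) ⊗ₜ[A] x := fun x => by simp [e]
  rw [hc C]
  constructor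
  · rintro ⟨u, hu, hux⟩
    refine ⟨e u, (he u).trans hu, fun x hx => ?_⟩
    rw [← he1, ← map_mul, hux _ (Finset.mem_image_of_mem _ hx), map_zero]
  · rintro ⟨u, hu, hux⟩
    refine ⟨e.symm u, by rw [← he, AlgEquiv.apply_symm_apply, hu], fun y hy => ?_⟩
    obtain ⟨x, hx, rfl⟩ := Finset.mem_image.mp hy
    apply e.injective
    rw [map_mul, AlgEquiv.apply_symm_apply, he1, hux x hx, map_zero]

end Groth.Agent.SmoothWeilLib
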