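import Groth.Agent.SmoothWeilLib.FibreNZD
import Groth.Agent.SmoothWeilLib.ConnFibres
import Groth.Agent.SmoothWeilLib.Content
import Groth.Agent.GrpSchLib.CoincidenceFP
import Mathlib.AlgebraicGeometry.Morphisms.FinitePresentation
import Mathlib.AlgebraicGeometry.Morphisms.UniversallyOpen

/-!
# Weil restriction of closed subschemes along smooth morphisms with connected geometric fibres
-/

universe u

open CategoryTheory CategoryTheory.Limits AlgebraicGeometry TensorProduct

noncomputable section

namespace Groth.Agent.SmoothWeilLib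

/-- The ideal of the preimage of a closed subscheme in an affine scheme. -/
theorem exists_ideal_factor {X Y : Scheme.{u}} (y : Y ⟶ X) [IsClosedImmersion y] {R : Type u} [CommRing R]
    (h : Spec (CommRingCat.of R) ⟶ X) :
    ∃ J : Ideal R, (LocallyOfFinitePresentation y → J.FG) ∧ ∀ (R' : Type u) [CommRing R'] (ψ : R →+* R'),
      (∃ l : Spec (CommRingCat.of R') ⟶ Y, l ≫ y = Spec.map (CommRingCat.ofHom ψ) ≫ h) ↔ J ≤ RingHom.ker ψ := by
  obtain ⟨J, e, he⟩ := IsClosedImmersion.Spec_iff.mp (inferInstance : IsClosedImmersion (pullback.fst h y))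
  refine ⟨J, fun hy => ?_, fun R' _ ψ => ⟨?_, fun hJ => ?_⟩⟩
  · haveI := hy
    have hfp : LocallyOfFinitePresentation (Spec.map (CommRingCat.ofHom (Ideal.Quotient.mk J))) := by
      rw [← MorphismProperty.cancel_left_of_respectsIso @LocallyOfFinitePresentation e.hom, ← he]
      infer_instance
    rw [HasRingHomProperty.Spec_iff (P := @LocallyOfFinitePresentation), CommRingCat.hom_ofHom] at hfp
    haveI : Algebra.FinitePresentation R (R ⧸ J) := RingHom.finitePresentation_algebraMap.mp hfp
    have := Algebra.FinitePresentation.ker_fG_of_surjective (Ideal.Quotient.mkₐ R J) (Ideal.Quotient.mkₐ_surjective R J)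
    rwa [show RingHom.ker (Ideal.Quotient.mkₐ R J).toRingHom = J from Ideal.mk_ker] at this
  · rintro ⟨l, hl⟩
    let m : Spec (CommRingCat.of R') ⟶ pullback h y := pullback.lift (Spec.map (CommRingCat.ofHom ψ)) l hl.symm
    obtain ⟨χ, hχ⟩ := Spec.map_surjective (m ≫ e.hom)
    have hψ : CommRingCat.ofHom ψ = CommRingCat.ofHom (Ideal.Quotient.mk J) ≫ χ := by
      apply Spec.map_injective
      rw [Spec.map_comp, hχ, Category.assoc, ← he]
      exact (pullback.lift_fst _ _ _).symm
    intro x hx
    show ψ x = 0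
    have := congrArg (fun k => k.hom x) hψ
    simpa [Ideal.Quotient.eq_zero_iff_mem.mpr hx] using this
  · refine ⟨Spec.map (CommRingCat.ofHom (Ideal.Quotient.lift J ψ fun x hx => hJ hx)) ≫ e.inv ≫ pullback.snd h y, ?_⟩
    rw [Category.assoc, Category.assoc, ← pullback.condition]
    have h1 : e.inv ≫ pullback.fst h y = Spec.map (CommRingCat.ofHom (Ideal.Quotient.mk J)) := by
      rw [he, Iso.inv_hom_id_assoc]
    rw [reassoc_of% h1, ← Spec.map_comp_assoc, ← CommRingCat.ofHom_comp, Ideal.Quotient.lift_comp_mk]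

variable {S X Y : Scheme.{u}} (f : X ⟶ S) [Smooth f] [GeometricallyIrreducible f] (y : Y ⟶ X) [IsClosedImmersion y]

set_option maxHeartbeats 1600000 in
/-- The ideal cut out over an affine piece by an affine open of the source surjecting onto it. -/
theorem exists_ideal_conn {A : Type u} [CommRing A] (a : Spec (CommRingCat.of A) ⟶ S)
    (W : (pullback a f).Opens) (hW : IsAffineOpen W)
    (hsurj : ∀ p, ∃ z ∈ W, pullback.fst a f z = p) :
    ∃ I : Ideal A, (LocallyOfFinitePresentation y → I.FG) ∧ GrpSchLib.HasIdeal f y a I := by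
  classical
  let E : Type u := Γ(pullback a f, W)
  let θ : CommRingCat.of A ⟶ Γ(pullback a f, W) := Spec.preimage (hW.fromSpec ≫ pullback.fst a f)
  have hθ : Spec.map θ = hW.fromSpec ≫ pullback.fst a f := Spec.map_preimage _
  letI : Algebra A E := θ.hom.toAlgebra
  let v : Spec (CommRingCat.of E) ⟶ pullback a f := hW.fromSpec
  haveI : IsOpenImmersion v := inferInstanceAs (IsOpenImmersion hW.fromSpec)
  have hv : v ≫ pullback.fst a f = Spec.map (CommRingCat.ofHom (algebraMap A E)) := hθ.symm
  haveI : Algebra.Smooth A E := by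
    have h : Smooth (Spec.map θ) := by rw [hθ]; infer_instance
    exact RingHom.smooth_algebraMap.mp ((HasRingHomProperty.Spec_iff (P := @Smooth) (φ := θ)).mp h)
  haveI : Module.FaithfullyFlat A E := Module.FaithfullyFlat.of_comap_surjective fun p => by
    obtain ⟨z, hz, hzp⟩ := hsurj p
    obtain ⟨w, hw⟩ : z ∈ Set.range v := by
      show z ∈ Set.range hW.fromSpec
      rw [hW.range_fromSpec]; exact hz
    refine ⟨w, ?_⟩
    rw [← hzp, ← hw, ← Scheme.Hom.comp_apply, hv]
    rfl
  obtain ⟨J, hJfg, hJ⟩ := exists_ideal_factor y (v ≫ pullback.snd a f)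
  -- a generating set, finite when the closed subscheme is of finite presentation
  obtain ⟨G, hG, hGfin⟩ : ∃ G : Set E, Ideal.span G = J ∧ (LocallyOfFinitePresentation y → G.Finite) := by
    by_cases h : J.FG
    · obtain ⟨s, hs⟩ := h
      exact ⟨s, hs, fun _ => s.finite_toSet⟩
    · exact ⟨J, Ideal.span_eq J, fun hy => absurd (hJfg hy) h⟩
  choose c hcfg hc using fun x : E => exists_ideal_rel (AlgHom.id A E) ({x} : Finset E)
  let I' : Ideal E := ⨆ x ∈ G, c x
  have hI' : ∀ (C : Type u) [CommRing C] [Algebra A C] (g : E →ₐ[A] C),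
      (∀ x ∈ G, (1 : C) ⊗ₜ[A] x = 0) ↔ I' ≤ RingHom.ker g := fun C _ _ g => by
    letI := g.toRingHom.toAlgebra
    haveI : IsScalarTower A E C := IsScalarTower.of_algebraMap_eq fun r => (g.commutes r).symm
    rw [show RingHom.ker g = RingHom.ker (algebraMap E C) from rfl, iSup₂_le_iff]
    refine forall₂_congr fun x _ => ?_
    rw [hc x C]
    constructor
    · intro h
      refine ⟨1, map_one _, fun x' hx' => ?_⟩
      rw [Finset.mem_singleton.mp hx', h, mul_zero]
    · rintro ⟨u, hu, hux⟩
      refine eq_zero_of_fibrewise (O := C) (B := C ⊗[A] E) (fun p hp => ?_) _ fun Q hQ => ?_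
      · haveI := noZeroDivisors_fibre f a v hv p.ResidueField
        let e := Algebra.TensorProduct.cancelBaseChange A C p.ResidueField p.ResidueField E
        exact e.injective.noZeroDivisors _ (map_zero e) (map_mul e)
      · let σ : C ⊗[A] E →ₐ[C] C := Algebra.TensorProduct.lift (AlgHom.id C C)
          ((IsScalarTower.toAlgHom A E C).comp (AlgHom.id A E)) fun _ _ => Commute.all _ _
        refine ⟨(Q.under C).comap σ, inferInstance, u, ?_, ?_, hux x (Finset.mem_singleton_self x)⟩
        · ext r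
          show σ (algebraMap C _ r) ∈ Q.under C ↔ _
          rw [AlgHom.commutes]
          rfl
        · intro h
          have : σ u ∈ Q.under C := h
          rw [hu] at this
          exact (inferInstance : (Q.under C).IsPrime).ne_top ((Ideal.eq_top_iff_one _).mpr this)
  obtain ⟨I, hIfg, hI⟩ := exists_descend (A := A) (A' := E) G I' hI'
  refine ⟨I, fun hy => hIfg ?_, fun C _ φ => ?_⟩
  · have : I' = (hGfin hy).toFinset.sup c := by simp [I', Finset.sup_eq_iSup]
    rw [this]
    exact Submodule.fg_finset_sup _ _ fun x _ => hcfg x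
  letI := φ.toAlgebra
  let κ := Spec.map (CommRingCat.ofHom φ)
  let g := κ ≫ a
  let P := pullback g f
  let T := Spec (CommRingCat.of (C ⊗[A] E))
  let iL : T ⟶ Spec (CommRingCat.of C) :=
    Spec.map (CommRingCat.ofHom (Algebra.TensorProduct.includeLeftRingHom (R := A) (A := C) (B := E)))
  let iR : T ⟶ Spec (CommRingCat.of E) :=
    Spec.map (CommRingCat.ofHom (Algebra.TensorProduct.includeRight (R := A) (A := C) (B := E)).toRingHom)
  have hsq : IsPullback iR iL (Spec.map (CommRingCat.ofHom (algebraMap A E))) κ :=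
    (isPullback_SpecMap_of_isPushout _ _ _ _ (CommRingCat.isPushout_tensorProduct A C E)).flip
  let q : P ⟶ pullback a f := pullback.map g f a f κ (𝟙 X) (𝟙 S) (by simp [g]) (by simp)
  have hq1 : q ≫ pullback.fst a f = pullback.fst g f ≫ κ := pullback.lift_fst _ _ _
  have hq2 : q ≫ pullback.snd a f = pullback.snd g f := (pullback.lift_snd _ _ _).trans (Category.comp_id _)
  have hb : IsPullback q (pullback.fst g f) (pullback.fst a f) κ :=
    IsPullback.of_right (by rw [hq2]; exact (IsPullback.of_hasPullback g f).flip) hq1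
      (IsPullback.of_hasPullback a f).flip
  let VC : T ⟶ P := hb.lift (iR ≫ v) iL (by rw [Category.assoc, hv]; exact hsq.w)
  have hVq : VC ≫ q = iR ≫ v := hb.lift_fst _ _ _
  have hVf : VC ≫ pullback.fst g f = iL := hb.lift_snd _ _ _
  have hVs : VC ≫ pullback.snd g f = iR ≫ v ≫ pullback.snd a f := by rw [← hq2, reassoc_of% hVq]
  have htop : IsPullback iR VC v q := by
    refine IsPullback.of_bot ?_ hVq.symm hb
    rw [hVf, hv]
    exact hsq
  haveI : IsOpenImmersion VC := MorphismProperty.of_isPullback (P := @IsOpenImmersion) htop ‹IsOpenImmersion v›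
  haveI : Surjective iL := MorphismProperty.of_isPullback (P := @Surjective) hsq
    ⟨fun p => by
      obtain ⟨w, hw⟩ := PrimeSpectrum.comap_surjective_of_faithfullyFlat (A := A) (B := E) p
      exact ⟨w, hw⟩⟩
  have hcond : (∀ x ∈ G, (1 : C) ⊗ₜ[A] x = 0) ↔ ∃ l : T ⟶ Y, l ≫ y = VC ≫ pullback.snd g f := by
    rw [hVs]
    refine Iff.trans ?_ (hJ (C ⊗[A] E) (Algebra.TensorProduct.includeRight (R := A) (A := C) (B := E)).toRingHom).symm
    rw [← hG, Ideal.span_le]
    rfl
  rw [show RingHom.ker φ = RingHom.ker (algebraMap A C) from rfl, ← hI C, hcond]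
  refine ⟨fun ⟨l, hl⟩ => ⟨VC ≫ l, by rw [Category.assoc, hl]⟩, fun ⟨l, hl⟩ => ?_⟩
  -- gluing over the affine opens of the base change
  have hloc : ∀ V : P.affineOpens, ∃ m : (V.1 : Scheme.{u}) ⟶ Y, m ≫ y = V.1.ι ≫ pullback.snd g f := by
    intro V
    let B : Type u := Γ(P, V.1)
    let θ' : CommRingCat.of C ⟶ Γ(P, V.1) := Spec.preimage (V.2.fromSpec ≫ pullback.fst g f)
    have hθ' : Spec.map θ' = V.2.fromSpec ≫ pullback.fst g f := Spec.map_preimage _
    letI : Algebra C B := θ'.hom.toAlgebra
    let v' : Spec (CommRingCat.of B) ⟶ pullback g f := V.2.fromSpec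
    haveI : IsOpenImmersion v' := inferInstanceAs (IsOpenImmersion V.2.fromSpec)
    have hv' : v' ≫ pullback.fst g f = Spec.map (CommRingCat.ofHom (algebraMap C B)) := hθ'.symm
    haveI : Algebra.Smooth C B := by
      have h : Smooth (Spec.map θ') := by rw [hθ']; infer_instance
      exact RingHom.smooth_algebraMap.mp ((HasRingHomProperty.Spec_iff (P := @Smooth) (φ := θ')).mp h)
    obtain ⟨J', -, hJ'⟩ := exists_ideal_factor y (v' ≫ pullback.snd g f)
    have hzero : ∀ x ∈ J', x = 0 := fun x hx => by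
      refine eq_zero_of_fibrewise (O := C) (fun p _ => noZeroDivisors_fibre f g v' hv' p.ResidueField) x fun Q hQ => ?_
      let Q₀ : PrimeSpectrum B := ⟨Q, hQ⟩
      let s := pullback.fst g f (v' Q₀)
      have hirr : IsPreirreducible (pullback.fst g f ⁻¹' {s}) :=
        ((pullback.fst g f).isIrreducible_preimage (pullback.fst g f).isOpenMap isIrreducible_singleton).isPreirreducible
      obtain ⟨w, hw⟩ := (inferInstance : Surjective iL).surj s
      obtain ⟨z, hzs, ⟨Q₁, rfl⟩, hz⟩ := hirr (Set.range v') (Set.range VC)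
        v'.isOpenEmbedding.isOpen_range VC.isOpenEmbedding.isOpen_range
        ⟨v' Q₀, rfl, Q₀, rfl⟩ ⟨VC w, by
          show pullback.fst g f (VC w) = s
          rw [← Scheme.Hom.comp_apply, hVf]; exact hw, w, rfl⟩
      obtain ⟨_, ⟨r, rfl⟩, hr, hsub⟩ := PrimeSpectrum.isTopologicalBasis_basic_opens.exists_subset_of_mem_open
        hz (v'.continuous.isOpen_preimage _ VC.isOpenEmbedding.isOpen_range)
      let j : Spec (CommRingCat.of (Localization.Away r)) ⟶ Spec (CommRingCat.of B) :=
        Spec.map (CommRingCat.ofHom (algebraMap B (Localization.Away r)))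
      have hrange : Set.range (j ≫ v') ⊆ Set.range VC := by
        rintro _ ⟨t, rfl⟩
        refine hsub ?_
        have : j t ∈ Set.range (PrimeSpectrum.comap (algebraMap B (Localization.Away r))) := ⟨t, rfl⟩
        rw [PrimeSpectrum.localization_away_comap_range (Localization.Away r) r] at this
        exact this
      have hker := (hJ' _ (algebraMap B (Localization.Away r))).mp ⟨IsOpenImmersion.lift VC (j ≫ v') hrange ≫ l, by
        rw [Category.assoc, hl, IsOpenImmersion.lift_fac_assoc, Category.assoc]⟩ hx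
      obtain ⟨⟨_, n, rfl⟩, hn⟩ := (IsLocalization.map_eq_zero_iff (Submonoid.powers r) _ _).mp (RingHom.mem_ker.mp hker)
      refine ⟨Q₁.asIdeal, Q₁.2, r ^ n, ?_, fun h => hr (Q₁.2.mem_of_pow_mem n h), hn⟩
      have h1 : Spec.map (CommRingCat.ofHom (algebraMap C B)) Q₁ = Spec.map (CommRingCat.ofHom (algebraMap C B)) Q₀ := by
        rw [← hv', Scheme.Hom.comp_apply, Scheme.Hom.comp_apply]
        exact hzs
      exact congrArg PrimeSpectrum.asIdeal h1
    obtain ⟨m, hm⟩ := (hJ' B (RingHom.id B)).mpr fun x hx => by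
      rw [RingHom.mem_ker, RingHom.id_apply]; exact hzero x hx
    refine ⟨V.2.isoSpec.hom ≫ m, ?_⟩
    rw [Category.assoc, hm, CommRingCat.ofHom_id]
    show V.2.isoSpec.hom ≫ Spec.map (𝟙 _) ≫ V.2.fromSpec ≫ _ = _
    rw [Spec.map_id, Category.id_comp, IsAffineOpen.isoSpec_hom_fromSpec_assoc]
  choose m hm using hloc
  let 𝒰 := P.openCoverOfIsOpenCover (fun V : P.affineOpens => V.1) (P.isBasis_affineOpens.isOpenCover)
  refine ⟨𝒰.glueMorphisms m fun V V' => ?_, 𝒰.hom_ext _ _ fun V => ?_⟩
  · rw [← cancel_mono y, Category.assoc, Category.assoc]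
    exact (congrArg (pullback.fst _ _ ≫ ·) (hm V)).trans
      ((pullback.condition_assoc _).trans (congrArg (pullback.snd _ _ ≫ ·) (hm V')).symm)
  · rw [Scheme.Cover.ι_glueMorphisms_assoc]
    exact hm V

/-- The Weil restriction of a closed subscheme along a smooth morphism with irreducible geometric fibres. -/
theorem exists_weil_conn :
    ∃ (T : Scheme.{u}) (t : T ⟶ S), IsClosedImmersion t ∧
      (∀ (S' : Scheme.{u}) (g : S' ⟶ S), (∃ g' : S' ⟶ T, g' ≫ t = g) ↔ GrpSchLib.Good f y g) ∧
      (LocallyOfFinitePresentation y → LocallyOfFinitePresentation t) := by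
  have key : ∀ {A : Type u} [CommRing A] (a : Spec (CommRingCat.of A) ⟶ S) (p : PrimeSpectrum A),
      ∃ r : A, r ∉ p.asIdeal ∧ ∃ c : Ideal (Localization.Away r), (LocallyOfFinitePresentation y → c.FG) ∧
        GrpSchLib.HasIdeal f y (Spec.map (CommRingCat.ofHom (algebraMap A (Localization.Away r))) ≫ a) c := by
    intro A _ a p
    obtain ⟨z, hz⟩ := (inferInstance : Surjective (pullback.fst a f)).surj p
    obtain ⟨W, hW, hzW, -⟩ := exists_isAffineOpen_mem_and_subset (show z ∈ (⊤ : (pullback a f).Opens) from trivial)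
    have hp : p ∈ pullback.fst a f '' (W : Set _) := ⟨z, hzW, hz⟩
    obtain ⟨_, ⟨r, rfl⟩, hpr, hsub⟩ := PrimeSpectrum.isTopologicalBasis_basic_opens.exists_subset_of_mem_open hp
      ((pullback.fst a f).isOpenMap _ W.2)
    let κ := Spec.map (CommRingCat.ofHom (algebraMap A (Localization.Away r)))
    haveI : IsOpenImmersion κ := IsOpenImmersion.of_isLocalization r
    let q : pullback (κ ≫ a) f ⟶ pullback a f := pullback.map (κ ≫ a) f a f κ (𝟙 X) (𝟙 S) (by simp) (by simp)
    have hq1 : q ≫ pullback.fst a f = pullback.fst (κ ≫ a) f ≫ κ := pullback.lift_fst _ _ _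
    have hb : IsPullback q (pullback.fst (κ ≫ a) f) (pullback.fst a f) κ :=
      IsPullback.of_right (by
        rw [show q ≫ pullback.snd a f = pullback.snd (κ ≫ a) f from (pullback.lift_snd _ _ _).trans (Category.comp_id _)]
        exact (IsPullback.of_hasPullback (κ ≫ a) f).flip) hq1 (IsPullback.of_hasPullback a f).flip
    haveI : IsAffineHom q := MorphismProperty.of_isPullback (P := @IsAffineHom) hb.flip inferInstance
    obtain ⟨I, hIfg, hI⟩ := exists_ideal_conn f y (κ ≫ a) (q ⁻¹ᵁ W) (hW.preimage q) fun p' => by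
      have hp' : κ p' ∈ pullback.fst a f '' (W : Set _) := by
        refine hsub ?_
        have : κ p' ∈ Set.range (PrimeSpectrum.comap (algebraMap A (Localization.Away r))) := ⟨p', rfl⟩
        rw [PrimeSpectrum.localization_away_comap_range (Localization.Away r) r] at this
        exact this
      obtain ⟨z', hz', hzp'⟩ := hp'
      obtain ⟨t, ht1, ht2⟩ := Scheme.exists_preimage_of_isPullback hb z' p' hzp'
      exact ⟨t, show q t ∈ W by rw [ht1]; exact hz', ht2⟩
    exact ⟨r, hpr, I, hIfg, hI⟩
  have hI : GrpSchLib.HasIdeals f y := fun U => by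
    refine GrpSchLib.hasIdeal_of_span _ {r : Γ(S, U) | ∃ c, GrpSchLib.HasIdeal f y
      (Spec.map (CommRingCat.ofHom (algebraMap Γ(S, U) (Localization.Away r))) ≫ U.2.fromSpec) c} ?_ fun r => r.2
    by_contra h
    obtain ⟨m, hm, hle⟩ := Ideal.exists_le_maximal _ h
    obtain ⟨r, hr, c, -, hc⟩ := key U.2.fromSpec ⟨m, hm.isPrime⟩
    exact hr (hle (Ideal.subset_span ⟨c, hc⟩))
  obtain ⟨T, t, ht, hT⟩ := GrpSchLib.exists_weilRestriction hI
  refine ⟨T, t, ht, hT, fun hy => GrpSchLib.locallyOfFinitePresentation_of_hasIdeal hT fun x => ?_⟩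
  obtain ⟨U, hU, hxU, -⟩ := exists_isAffineOpen_mem_and_subset (show x ∈ (⊤ : S.Opens) from trivial)
  obtain ⟨r, hr, c, hfg, hc⟩ := key hU.fromSpec (hU.primeIdealOf ⟨x, hxU⟩)
  haveI : IsOpenImmersion (Spec.map (CommRingCat.ofHom (algebraMap Γ(S, U) (Localization.Away r)))) :=
    IsOpenImmersion.of_isLocalization r
  refine ⟨Localization.Away r, inferInstance, _, inferInstance, ?_, c, hc, hfg hy⟩
  have hQ : hU.primeIdealOf ⟨x, hxU⟩ ∈ Set.range (PrimeSpectrum.comap (algebraMap Γ(S, U) (Localization.Away r))) := by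
    rw [PrimeSpectrum.localization_away_comap_range (Localization.Away r) r]
    exact hr
  obtain ⟨z, hz⟩ := hQ
  exact ⟨z, (congrArg (fun q => hU.fromSpec q) hz).trans (hU.fromSpec_primeIdealOf ⟨x, hxU⟩)⟩

end Groth.Agent.SmoothWeilLib
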