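import Groth.Agent.GrpSchLib.FibreIrr
import Groth.Agent.GrpSchLib.Shear
import Groth.Agent.FpqcDescLib.Basic
import Mathlib.AlgebraicGeometry.Morphisms.Smooth

/-!
# Fibrewise dense opens of a smooth group with connected fibres generate it

For an open `U` of `P ⊗ X` meeting every fibre over `P`, the products of two points of `U` cover `P ⊗ X` faithfully
flatly, so that a morphism from `U` into a multiplicatively closed subobject of `X` extends to `P ⊗ X`.
-/

universe u

open CategoryTheory CategoryTheory.Limits MonoidalCategory CartesianMonoidalCategory MonObj GrpObj AlgebraicGeometry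

noncomputable section

namespace Groth.Agent.SmoothWeilLib

variable {S : Scheme.{u}} {X : Over S} [GrpObj X]

/-- The fibre of `P ⊗ X` over a field-valued point is irreducible. -/
theorem irreducibleSpace_tensor_field [LocallyOfFiniteType X.hom]
    (hconn : ∀ s : S, _root_.IsConnected (X.hom ⁻¹' {s})) {K : Type u} [Field K]
    (b : Spec (CommRingCat.of K) ⟶ S) : IrreducibleSpace ↥(Over.mk b ⊗ X).left := by
  let s := b (IsLocalRing.closedPoint K)
  obtain ⟨hgi, -⟩ := GrpSchLib.FibreIrr.geometricallyIrreducible_fib X s (hconn s)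
  haveI : GeometricallyIrreducible (X.hom.fiberToSpecResidueField s) := hgi
  let p := Scheme.SpecToEquivOfField K S b
  have ht : b = Spec.map p.2 ≫ S.fromSpecResidueField s := ((Scheme.SpecToEquivOfField K S).left_inv b).symm
  let e : (Over.mk b ⊗ X).left ≅ pullback (X.hom.fiberToSpecResidueField s) (Spec.map p.2) :=
    pullbackSymmetry b X.hom ≪≫ pullback.congrHom rfl ht ≪≫
      (pullbackLeftPullbackSndIso X.hom (S.fromSpecResidueField s) _).symm
  haveI : IrreducibleSpace ↥(pullback (X.hom.fiberToSpecResidueField s) (Spec.map p.2)) :=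
    GeometricallyIrreducible.geometrically_irreducibleSpace _ _ _ (IsPullback.of_hasPullback _ _)
  rw [irreducibleSpace_def, Set.top_eq_univ,
    ← (Set.range_eq_univ.mpr e.inv.homeomorph.surjective : Set.range e.inv = _), ← Set.image_univ]
  exact (IrreducibleSpace.isIrreducible_univ _).image _ e.inv.continuous.continuousOn

set_option maxHeartbeats 800000 in
/-- A morphism into a multiplicatively closed subobject extends from an open meeting every fibre. -/
theorem exists_extend [Smooth X.hom] (hconn : ∀ s : S, _root_.IsConnected (X.hom ⁻¹' {s}))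
    {Y : Over S} (i : Y ⟶ X) [Mono i]
    (hmul : ∀ (T : Over S) (a b : T ⟶ Y), ∃ c : T ⟶ Y, c ≫ i = (a ≫ i) * (b ≫ i))
    (P : Over S) (U : (P ⊗ X).left.Opens) (hU : ∀ q : P.left, ∃ z ∈ U, (fst P X).left z = q)
    (β : Over.mk (U.ι ≫ (P ⊗ X).hom) ⟶ Y)
    (hβ : β ≫ i = (Over.homMk U.ι rfl : Over.mk (U.ι ≫ (P ⊗ X).hom) ⟶ P ⊗ X) ≫ snd P X) :
    ∃ l : P ⊗ X ⟶ Y, l ≫ i = snd P X := by
  let π₁ : P ⊗ (X ⊗ X) ⟶ P ⊗ X := P ◁ fst X X
  let π₂ : P ⊗ (X ⊗ X) ⟶ P ⊗ X := P ◁ snd X X
  let O : (P ⊗ (X ⊗ X)).left.Opens := π₁.left ⁻¹ᵁ U ⊓ π₂.left ⁻¹ᵁ U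
  let Q : Over S := Over.mk (O.ι ≫ (P ⊗ (X ⊗ X)).hom)
  let o : Q ⟶ P ⊗ (X ⊗ X) := Over.homMk O.ι rfl
  let jU : Over.mk (U.ι ≫ (P ⊗ X).hom) ⟶ P ⊗ X := Over.homMk U.ι rfl
  have hlift : ∀ (π : P ⊗ (X ⊗ X) ⟶ P ⊗ X), O ≤ π.left ⁻¹ᵁ U → ∃ r : Q ⟶ Over.mk (U.ι ≫ (P ⊗ X).hom), r ≫ jU = o ≫ π := by
    intro π hπ
    have hr : Set.range (O.ι ≫ π.left) ⊆ Set.range U.ι := by
      rintro _ ⟨z, rfl⟩
      rw [Scheme.Opens.range_ι]
      exact hπ z.2
    refine ⟨Over.homMk (IsOpenImmersion.lift U.ι _ hr) ?_, Over.OverMorphism.ext (IsOpenImmersion.lift_fac _ _ _)⟩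
    show IsOpenImmersion.lift U.ι _ hr ≫ U.ι ≫ (P ⊗ X).hom = O.ι ≫ _
    rw [IsOpenImmersion.lift_fac_assoc, Category.assoc, Over.w π]
  obtain ⟨r₁, hr₁⟩ := hlift π₁ inf_le_left
  obtain ⟨r₂, hr₂⟩ := hlift π₂ inf_le_right
  obtain ⟨c, hc⟩ := hmul Q (r₁ ≫ β) (r₂ ≫ β)
  let m : Q ⟶ P ⊗ X := o ≫ P ◁ μ[X]
  have hcm : c ≫ i = m ≫ snd P X := by
    rw [hc, Category.assoc, Category.assoc, hβ, reassoc_of% hr₁, reassoc_of% hr₂]
    simp only [π₁, π₂, m, Category.assoc, whiskerLeft_snd]
    rw [← MonObj.comp_mul, ← MonObj.comp_mul]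
    congr 2
    rw [MonObj.mul_eq_mul]
  -- the product map is a covering
  haveI : Smooth μ[X].left := by
    rw [GrpSchLib.mul_eq_id_whiskerRight (G := X), ← GrpSchLib.shearIso_hom_snd, Over.comp_left]
    haveI : Smooth (snd X X).left := inferInstanceAs (Smooth (pullback.snd X.hom X.hom))
    infer_instance
  haveI : Smooth (P ◁ μ[X]).left := by
    have h : IsPullback (snd P (X ⊗ X)) (P ◁ μ[X]) μ[X] (snd P X) :=
      IsPullback.of_isLimit' ⟨by simp⟩ (PullbackCone.IsLimit.mk _ (fun c => lift (c.snd ≫ fst P X) c.fst)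
        (fun c => by simp) (fun c => by
          apply CartesianMonoidalCategory.hom_ext
          · simp
          · simpa using c.condition)
        fun c k h1 h2 => by
          apply CartesianMonoidalCategory.hom_ext
          · simp [← h2]
          · simp [← h1])
    exact MorphismProperty.of_isPullback (P := @Smooth) (h.map (Over.forget S)) ‹Smooth μ[X].left›
  haveI : Smooth m.left := by
    rw [show m.left = O.ι ≫ (P ◁ μ[X]).left from rfl]
    infer_instance
  haveI : Surjective m.left := by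
    refine ⟨fun z => ?_⟩
    let K := (P ⊗ X).left.residueField z
    let zp : Over.mk ((P ⊗ X).left.fromSpecResidueField z ≫ (P ⊗ X).hom) ⟶ P ⊗ X :=
      Over.homMk ((P ⊗ X).left.fromSpecResidueField z) rfl
    let κ := Over.mk ((P ⊗ X).left.fromSpecResidueField z ≫ (P ⊗ X).hom)
    haveI : IrreducibleSpace ↥(κ ⊗ X).left :=
      irreducibleSpace_tensor_field hconn ((P ⊗ X).left.fromSpecResidueField z ≫ (P ⊗ X).hom)
    let σ : κ ⊗ X ⟶ P ⊗ X := lift (fst κ X ≫ zp ≫ fst P X) (snd κ X)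
    let τ : κ ⊗ X ⟶ κ ⊗ X := lift (fst κ X) ((snd κ X)⁻¹ * (fst κ X ≫ zp ≫ snd P X))
    let τ' : κ ⊗ X ⟶ κ ⊗ X := lift (fst κ X) ((fst κ X ≫ zp ≫ snd P X) * (snd κ X)⁻¹)
    have hτ : τ' ≫ τ = 𝟙 _ := by
      apply CartesianMonoidalCategory.hom_ext
      · simp [τ, τ']
      · simp [τ, τ', MonObj.comp_mul, GrpObj.comp_inv]
    have hne : (σ.left ⁻¹' (U : Set (P ⊗ X).left)).Nonempty := by
      have hsq : IsPullback (fst κ X) σ (zp ≫ fst P X) (fst P X) :=
        IsPullback.of_isLimit' ⟨by simp [σ]⟩ (PullbackCone.IsLimit.mk _ (fun c => lift c.fst (c.snd ≫ snd P X))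
          (fun c => by simp) (fun c => by
            apply CartesianMonoidalCategory.hom_ext
            · simpa [σ] using c.condition
            · simp [σ])
          fun c k h1 h2 => by
            apply CartesianMonoidalCategory.hom_ext
            · simp [← h1]
            · simp [σ, ← h2])
      have hsqL := hsq.map (Over.forget S)
      obtain ⟨u, hu, huq⟩ := hU ((zp ≫ fst P X).left (IsLocalRing.closedPoint _))
      obtain ⟨w, -, hw⟩ := Scheme.Pullback.exists_preimage_pullback (f := (zp ≫ fst P X).left) (g := (fst P X).left)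
        (IsLocalRing.closedPoint _) u huq.symm
      refine ⟨hsqL.isoPullback.inv w, ?_⟩
      show σ.left (hsqL.isoPullback.inv w) ∈ U
      rw [show σ.left (hsqL.isoPullback.inv w) = u from
        (congrArg (fun q => q w) hsqL.isoPullback_inv_snd).trans hw]
      exact hu
    have hne' : ((τ ≫ σ).left ⁻¹' (U : Set (P ⊗ X).left)).Nonempty := by
      obtain ⟨w, hw⟩ := hne
      refine ⟨τ'.left w, ?_⟩
      show (τ ≫ σ).left (τ'.left w) ∈ U
      rw [← Scheme.Hom.comp_apply, ← Over.comp_left, reassoc_of% hτ]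
      exact hw
    obtain ⟨w, hw₁, hw₂⟩ := nonempty_preirreducible_inter (U.2.preimage σ.left.continuous)
      (U.2.preimage (τ ≫ σ).left.continuous) hne hne'
    let pr : κ ⊗ X ⟶ P ⊗ (X ⊗ X) := lift (σ ≫ fst P X) (lift (σ ≫ snd P X) (τ ≫ σ ≫ snd P X))
    have h₁ : pr ≫ π₁ = σ := by
      apply CartesianMonoidalCategory.hom_ext <;> simp [pr, π₁]
    have h₂ : pr ≫ π₂ = τ ≫ σ := by
      apply CartesianMonoidalCategory.hom_ext <;> simp [pr, π₂, σ, τ]
    have h₃ : pr ≫ P ◁ μ[X] = fst κ X ≫ zp := by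
      apply CartesianMonoidalCategory.hom_ext
      · simp [pr, σ]
      · simp [pr, σ, τ, ← Hom.mul_def]
    have hwO : pr.left w ∈ O :=
      ⟨show π₁.left (pr.left w) ∈ U by rw [← Scheme.Hom.comp_apply, ← Over.comp_left, h₁]; exact hw₁,
        show π₂.left (pr.left w) ∈ U by rw [← Scheme.Hom.comp_apply, ← Over.comp_left, h₂]; exact hw₂⟩
    refine ⟨⟨pr.left w, hwO⟩, ?_⟩
    show (P ◁ μ[X]).left (pr.left w) = z
    rw [← Scheme.Hom.comp_apply, ← Over.comp_left, h₃, Over.comp_left, Scheme.Hom.comp_apply]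
    exact Scheme.fromSpecResidueField_apply _ _
  have hcov : FpqcDescLib.Covers m.left :=
    FpqcDescLib.covers_of_isCovering (FpqcDescLib.isCovering_of_lfp m.left)
  haveI := hcov.over_epi
  obtain ⟨l, hl, -⟩ := hcov.over_desc c fun T a b h => by
    rw [← cancel_mono i, Category.assoc, Category.assoc, hcm, ← Category.assoc, h, Category.assoc]
  refine ⟨l, ?_⟩
  rw [← cancel_epi m, ← Category.assoc, hl, hcm]

end Groth.Agent.SmoothWeilLib
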