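import Groth.Agent.SmoothWeilLib.Conn

/-!
# Weil restriction along a family of homomorphisms

For a family `φ : H ⊗ P ⟶ M` of morphisms out of a smooth group with connected fibres, such that the points sent into a
subobject `Y ⟶ M` are stable under products and contain the unit, the parameters at which all of `H` is sent into `Y` form
a closed subscheme of finite presentation.
-/

universe u

open CategoryTheory CategoryTheory.Limits MonoidalCategory CartesianMonoidalCategory MonObj GrpObj AlgebraicGeometry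
open scoped CategoryTheory.Obj

noncomputable section

namespace Groth.Agent.SmoothWeilLib

variable {S : Scheme.{u}} {H : Over S} [GrpObj H]

theorem isConnected_preimage_snd [LocallyOfFiniteType H.hom] (hconn : ∀ s : S, _root_.IsConnected (H.hom ⁻¹' {s}))
    {P : Scheme.{u}} (t : P ⟶ S) (p : P) : _root_.IsConnected (pullback.snd H.hom t ⁻¹' {p}) := by
  haveI : IrreducibleSpace ↥(Over.mk (P.fromSpecResidueField p ≫ t) ⊗ H).left :=
    irreducibleSpace_tensor_field (K := P.residueField p) hconn (P.fromSpecResidueField p ≫ t)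
  let e : (Over.mk (P.fromSpecResidueField p ≫ t) ⊗ H).left ≅
      Limits.pullback (pullback.snd H.hom t) (P.fromSpecResidueField p) :=
    pullbackSymmetry (P.fromSpecResidueField p ≫ t) H.hom ≪≫
      (pullbackLeftPullbackSndIso H.hom t (P.fromSpecResidueField p)).symm
  haveI : ConnectedSpace ↥(Over.mk (P.fromSpecResidueField p ≫ t) ⊗ H).left :=
    connectedSpace_iff_univ.mpr (IrreducibleSpace.isIrreducible_univ _).isConnected
  haveI : ConnectedSpace ↥(Limits.pullback (pullback.snd H.hom t) (P.fromSpecResidueField p)) :=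
    e.hom.homeomorph.surjective.connectedSpace e.hom.continuous
  exact isConnected_preimage (pullback.snd H.hom t) p

set_option maxHeartbeats 800000 in
/-- The parameters at which a family of morphisms out of `H` lands in the subobject. -/
theorem exists_weil_param [Smooth H.hom] (hconn : ∀ s : S, _root_.IsConnected (H.hom ⁻¹' {s}))
    {P M Y : Over S} (φ : H ⊗ P ⟶ M) (j : Y ⟶ M) [Mono j] [LocallyOfFinitePresentation j.left]
    (h1 : ∀ (T : Over S) (p : T ⟶ P), ∃ c : T ⟶ Y, c ≫ j = lift 1 p ≫ φ)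
    (hmul : ∀ (T : Over S) (a b : T ⟶ H) (p : T ⟶ P), (∃ c : T ⟶ Y, c ≫ j = lift a p ≫ φ) →
      (∃ c : T ⟶ Y, c ≫ j = lift b p ≫ φ) → ∃ c : T ⟶ Y, c ≫ j = lift (a * b) p ≫ φ) :
    ∃ (T : Over S) (t : T ⟶ P), IsClosedImmersion t.left ∧ LocallyOfFinitePresentation t.left ∧
      ∀ (X : Over S) (g : X ⟶ P), (∃ x : X ⟶ T, x ≫ t = g) ↔ ∃ l : H ⊗ X ⟶ Y, l ≫ j = H ◁ g ≫ φ := by
  let F := Over.pullback P.hom
  let adj := Over.mapPullbackAdj P.hom
  haveI : Mono j.left := Over.mono_left_of_mono j
  haveI : Smooth (F.obj H).hom := inferInstanceAs (Smooth (pullback.snd H.hom P.hom))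
  let Yp : Over P.left := Over.mk (pullback.fst φ.left j.left ≫ (F.obj H).hom)
  let ip : Yp ⟶ F.obj H := Over.homMk (pullback.fst φ.left j.left) rfl
  haveI : Mono ip.left := inferInstanceAs (Mono (pullback.fst φ.left j.left))
  haveI : Mono ip := (Over.forget _).mono_of_mono_map (inferInstanceAs (Mono ip.left))
  haveI : LocallyOfFinitePresentation ip.left :=
    inferInstanceAs (LocallyOfFinitePresentation (pullback.fst φ.left j.left))
  -- points
  let pt : ∀ Z : Over P.left, (Over.map P.hom).obj Z ⟶ P := fun Z => Over.homMk Z.hom rfl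
  let hat : ∀ {Z : Over P.left}, (Z ⟶ F.obj H) → ((Over.map P.hom).obj Z ⟶ H) := fun {Z} a => (adj.homEquiv Z H).symm a
  have hpt : ∀ {Z : Over P.left} (a : Z ⟶ F.obj H), a.left = (lift (hat a) (pt Z)).left := fun {Z} a => by
    apply pullback.hom_ext
    · show _ = (lift (hat a) (pt Z) ≫ fst H P).left
      rw [lift_fst]
      show _ = ((adj.homEquiv Z H).symm a).left
      rw [Adjunction.homEquiv_counit]
      simp [adj, F]
    · show _ = (lift (hat a) (pt Z) ≫ snd H P).left
      rw [lift_snd]
      exact Over.w a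
  have hhat : ∀ {Z : Over P.left} (a b : Z ⟶ F.obj H), hat (a * b) = hat a * hat b := fun {Z} a b => by
    apply (adj.homEquiv Z H).injective
    rw [Adjunction.homEquiv_unit adj _ _ (hat a * hat b), Functor.map_mul, MonObj.comp_mul,
      ← Adjunction.homEquiv_unit, ← Adjunction.homEquiv_unit]
    simp only [hat, Equiv.apply_symm_apply]
  have hone : ∀ {Z : Over P.left}, hat (1 : Z ⟶ F.obj H) = 1 := fun {Z} => by
    have h := hhat (1 : Z ⟶ F.obj H) 1
    rw [_root_.one_mul] at h
    exact mul_left_cancel ((_root_.mul_one _).trans h).symm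
  have hfac : ∀ {Z : Over P.left} (a : Z ⟶ F.obj H),
      (∃ c : Z ⟶ Yp, c ≫ ip = a) ↔ ∃ c : (Over.map P.hom).obj Z ⟶ Y, c ≫ j = lift (hat a) (pt Z) ≫ φ := fun {Z} a => by
    constructor
    · rintro ⟨c, hc⟩
      have hl : (c.left ≫ pullback.snd φ.left j.left) ≫ j.left = (lift (hat a) (pt Z) ≫ φ).left := by
        rw [Category.assoc, ← pullback.condition, Over.comp_left, ← hpt, ← hc, Over.comp_left, Category.assoc]
        rfl
      exact ⟨Over.homMk (c.left ≫ pullback.snd φ.left j.left) (by
        rw [← Over.w j, ← Category.assoc, hl, Over.w]), Over.OverMorphism.ext hl⟩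
    · rintro ⟨c, hc⟩
      have hl : a.left ≫ φ.left = c.left ≫ j.left := by
        rw [hpt a, ← Over.comp_left, ← hc, Over.comp_left]
      refine ⟨Over.homMk (pullback.lift a.left c.left hl) ?_, Over.OverMorphism.ext (pullback.lift_fst _ _ _)⟩
      show pullback.lift a.left c.left hl ≫ pullback.fst φ.left j.left ≫ (F.obj H).hom = _
      rw [pullback.lift_fst_assoc, Over.w a]
  obtain ⟨e1, he1⟩ := (hfac (η[F.obj H])).mpr (by
    rw [show η[F.obj H] = (1 : 𝟙_ (Over P.left) ⟶ F.obj H) by
      rw [Hom.one_def, toUnit_unique (toUnit _) (𝟙 _), Category.id_comp], hone]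
    exact h1 _ _)
  obtain ⟨T, t, ht, htf, hT⟩ := exists_weil (S := P.left) (X := F.obj H) (isConnected_preimage_snd hconn P.hom) ip e1 he1
    fun Z a b => (hfac ((a ≫ ip) * (b ≫ ip))).mpr (by
      rw [hhat]
      exact hmul _ _ _ _ ((hfac _).mp ⟨a, rfl⟩) ((hfac _).mp ⟨b, rfl⟩))
  refine ⟨Over.mk (t ≫ P.hom), Over.homMk t rfl, ht, htf, fun X g => Iff.trans ⟨fun ⟨x, hx⟩ =>
    ⟨x.left, congrArg (fun k => CommaMorphism.left k) hx⟩, fun ⟨x, hx⟩ =>
    ⟨Over.homMk x (by show x ≫ t ≫ P.hom = _; rw [reassoc_of% hx, Over.w g]), Over.OverMorphism.ext hx⟩⟩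
    ((hT X.left g.left).trans ((good_iff_fst _ _ _).trans ?_))⟩
  have hsq : IsPullback (snd H X).left (H ◁ g).left g.left (snd H P).left :=
    (isPullback_whiskerLeft' H g).map (Over.forget S)
  constructor
  · rintro ⟨l, hl⟩
    let q : (H ⊗ X).left ⟶ pullback (F.obj H).hom g.left := pullback.lift (H ◁ g).left (snd H X).left hsq.w.symm
    have h : (q ≫ l ≫ pullback.snd φ.left j.left) ≫ j.left = (H ◁ g ≫ φ).left := by
      have hl' : l ≫ pullback.fst φ.left j.left = pullback.fst (F.obj H).hom g.left := hl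
      rw [Category.assoc, Category.assoc, ← pullback.condition, reassoc_of% hl']
      exact (pullback.lift_fst_assoc _ _ _ _)
    exact ⟨Over.homMk (q ≫ l ≫ pullback.snd φ.left j.left) (by rw [← Over.w j, ← Category.assoc, h, Over.w]),
      Over.OverMorphism.ext h⟩
  · rintro ⟨l, hl⟩
    have hf : IsPullback (H ◁ g).left (snd H X).left (F.obj H).hom g.left := hsq.flip
    have h : (hf.isoPullback.inv ≫ l.left) ≫ j.left = pullback.fst (F.obj H).hom g.left ≫ φ.left := by
      rw [Category.assoc, ← Over.comp_left, hl, Over.comp_left, hf.isoPullback_inv_fst_assoc]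
    exact ⟨pullback.lift _ _ h.symm, pullback.lift_fst _ _ _⟩

end Groth.Agent.SmoothWeilLib
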