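import Groth.Agent.Triage.SliceFlat
import Groth.Agent.GrpSchLib.Content
import Mathlib.RingTheory.LocalRing.ResidueField.Ideal
import Mathlib.RingTheory.Localization.BaseChange

/-!
# Fibrewise criteria for vanishing in a flat algebra with integral fibres
-/

universe u

open TensorProduct

namespace Groth.Agent.SmoothWeilLib

variable {O B : Type u} [CommRing O] [CommRing B] [Algebra O B]

theorem exists_smul_mem_of_fibre_eq_zero (p : Ideal O) [p.IsPrime] (t : B)
    (ht : (1 : p.ResidueField) ⊗ₜ[O] t = 0) : ∃ r ∉ p, algebraMap O B r * t ∈ p.map (algebraMap O B) := by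
  haveI : IsScalarTower O (O ⧸ p) p.ResidueField := inferInstance
  let e := Algebra.TensorProduct.cancelBaseChange O (O ⧸ p) p.ResidueField p.ResidueField B
  have h0 : (1 : p.ResidueField) ⊗ₜ[O ⧸ p] ((1 : O ⧸ p) ⊗ₜ[O] t) = 0 := by
    apply e.injective
    rw [map_zero, ← ht]
    simp [e]
  let g : (O ⧸ p) ⊗[O] B →ₗ[O ⧸ p] p.ResidueField ⊗[O ⧸ p] ((O ⧸ p) ⊗[O] B) :=
    TensorProduct.mk (O ⧸ p) p.ResidueField _ 1
  haveI : IsLocalizedModule (nonZeroDivisors (O ⧸ p)) g :=
    (isLocalizedModule_iff_isBaseChange (nonZeroDivisors (O ⧸ p)) p.ResidueField g).mpr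
      (TensorProduct.isBaseChange (O ⧸ p) _ p.ResidueField)
  obtain ⟨⟨c, hc⟩, hct⟩ := (IsLocalizedModule.eq_zero_iff (nonZeroDivisors (O ⧸ p)) g).mp h0
  obtain ⟨r, rfl⟩ := Ideal.Quotient.mk_surjective c
  refine ⟨r, fun hr => nonZeroDivisors.ne_zero hc (Ideal.Quotient.eq_zero_iff_mem.mpr hr), ?_⟩
  have h1 : (1 : O ⧸ p) ⊗ₜ[O] (algebraMap O B r * t) = 0 := by
    rw [← hct, ← Algebra.smul_def, TensorProduct.tmul_smul]
    rfl
  have h2 := (GrpSchLib.one_tmul_eq_zero_iff _ _).mp h1
  rwa [Ideal.smul_top_eq_map] at h2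

/-- In a flat finitely presented algebra with integral fibres, an element whose annihilator is, over each prime of the
base, not contained in some prime above it is zero. -/
theorem eq_zero_of_fibrewise [Algebra.FinitePresentation O B] [Module.Flat O B]
    (hdom : ∀ (p : Ideal O) [p.IsPrime], NoZeroDivisors (p.ResidueField ⊗[O] B)) (x : B)
    (h : ∀ (Q : Ideal B) [Q.IsPrime], ∃ (Q' : Ideal B) (_ : Q'.IsPrime) (u : B),
      Q'.under O = Q.under O ∧ u ∉ Q' ∧ u * x = 0) : x = 0 := by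
  classical
  let ann : Ideal B := LinearMap.ker (LinearMap.toSpanSingleton B B x)
  have hmem : ∀ b, b ∈ ann ↔ b * x = 0 := fun b => by simp [ann]
  suffices ann = ⊤ by simpa using (hmem 1).mp (this ▸ Submodule.mem_top)
  by_contra hne
  obtain ⟨Q, hQ, hle⟩ := Ideal.exists_le_maximal ann hne
  obtain ⟨Q', hQ', u, hQQ', huQ', hux⟩ := h Q
  have huQ : u ∈ Q := hle ((hmem u).mpr hux)
  let p : Ideal O := Q.under O
  haveI : Q.LiesOver p := ⟨rfl⟩
  have hker : ∀ b : B, (1 : p.ResidueField) ⊗ₜ[O] b = 0 → b ∈ FlatModel.sat p ⊥ Q.primeCompl := fun b hb => by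
    obtain ⟨r, hr, hrb⟩ := exists_smul_mem_of_fibre_eq_zero p b hb
    exact ⟨algebraMap O B r, hr, by rwa [bot_sup_eq]⟩
  have himg : ∀ (P : Ideal B) (_ : P.IsPrime) (_ : P.under O = p) (b : B), b ∉ P →
      (1 : p.ResidueField) ⊗ₜ[O] b ≠ 0 := fun P hP hPp b hb h0 => by
    obtain ⟨r, hr, hrb⟩ := exists_smul_mem_of_fibre_eq_zero p b h0
    have : algebraMap O B r * b ∈ P :=
      (Ideal.map_le_iff_le_comap.mpr (hPp ▸ le_refl _ : p ≤ P.comap (algebraMap O B))) hrb
    exact (hP.mem_or_mem this).elim (fun h' => hr (hPp ▸ h')) hb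
  have hreg : ∀ t, u * t ∈ FlatModel.sat p ⊥ Q.primeCompl → t ∈ FlatModel.sat p ⊥ Q.primeCompl := by
    rintro t ⟨w, hw, hwt⟩
    rw [bot_sup_eq] at hwt
    haveI := hdom p
    apply hker
    have h0 : (1 : p.ResidueField) ⊗ₜ[O] (w * (u * t)) = 0 := by
      obtain ⟨l, hl⟩ : ∃ l : B →ₗ[O] p.ResidueField ⊗[O] B, ∀ b, l b = (1 : p.ResidueField) ⊗ₜ[O] b :=
        ⟨TensorProduct.mk O p.ResidueField B 1, fun _ => rfl⟩
      rw [← hl]
      have hwt' : w * (u * t) ∈ (p.map (algebraMap O B)).restrictScalars O := hwt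
      rw [← Ideal.smul_top_eq_map] at hwt'
      refine Submodule.smul_induction_on hwt' (fun r hr b _ => ?_) fun a b ha hb => by rw [map_add, ha, hb, add_zero]
      rw [hl, TensorProduct.tmul_smul, TensorProduct.smul_tmul', Algebra.smul_def,
        Ideal.algebraMap_residueField_eq_zero.mpr hr, zero_mul, TensorProduct.zero_tmul]
    have e : ((1 : p.ResidueField) ⊗ₜ[O] w) * (((1 : p.ResidueField) ⊗ₜ[O] u) * ((1 : p.ResidueField) ⊗ₜ[O] t)) = 0 := by
      rw [Algebra.TensorProduct.tmul_mul_tmul, Algebra.TensorProduct.tmul_mul_tmul, one_mul, one_mul]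
      exact h0
    rcases mul_eq_zero.mp e with h' | h'
    · exact absurd h' (himg Q hQ.isPrime rfl w hw)
    · exact (mul_eq_zero.mp h').resolve_left (himg Q' hQ' hQQ' u huQ')
  obtain ⟨g, hg, hgood⟩ := Triage.SliceFlat.exists_slice_one u p Q huQ hreg
  haveI : Module.Flat B (Localization.Away g) := IsLocalization.flat _ (Submonoid.powers g)
  have hx0 : algebraMap B (Localization.Away g) x = 0 :=
    (hgood (Localization.Away g) (IsLocalization.Away.algebraMap_isUnit g)).1 _ (by rw [← map_mul, hux, map_zero])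
  obtain ⟨⟨_, n, rfl⟩, hn⟩ := (IsLocalization.map_eq_zero_iff (Submonoid.powers g) _ _).mp hx0
  exact hg (hQ.isPrime.mem_of_pow_mem n (hle ((hmem _).mpr hn)))

/-- Descent of the ideal of vanishing along a faithfully flat algebra. -/
theorem exists_descend {A A' M : Type u} [CommRing A] [CommRing A'] [Algebra A A'] [Module.FaithfullyFlat A A']
    [AddCommGroup M] [Module A M] [Module.Flat A M] (J : Set M) (I' : Ideal A')
    (hI' : ∀ (C : Type u) [CommRing C] [Algebra A C] (g : A' →ₐ[A] C),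
      (∀ x ∈ J, (1 : C) ⊗ₜ[A] x = 0) ↔ I' ≤ RingHom.ker g) :
    ∃ I : Ideal A, (I'.FG → I.FG) ∧ ∀ (C : Type u) [CommRing C] [Algebra A C],
      (∀ x ∈ J, (1 : C) ⊗ₜ[A] x = 0) ↔ I ≤ RingHom.ker (algebraMap A C) := by
  classical
  let I : Ideal A := I'.comap (algebraMap A A')
  have heq : I' ≤ I.map (algebraMap A A') := by
    intro y hy
    let g₁ : A' →ₐ[A] A' ⊗[A] (A' ⧸ I') := Algebra.TensorProduct.includeLeft
    let g₂ : A' →ₐ[A] A' ⊗[A] (A' ⧸ I') :=
      Algebra.TensorProduct.includeRight.comp (Ideal.Quotient.mkₐ A I')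
    have h0 : y ⊗ₜ[A] (1 : A' ⧸ I') = 0 := by
      refine ((hI' _ g₁).mp ((hI' _ g₂).mpr fun z hz => ?_)) hy
      simp [g₂, RingHom.mem_ker, Ideal.Quotient.eq_zero_iff_mem.mpr hz]
    let f : (A ⧸ I) →ₗ[A] (A' ⧸ I') :=
      Submodule.mapQ I (I'.restrictScalars A) (Algebra.linearMap A A') fun z hz => hz
    have hf : Function.Injective f := by
      rw [← LinearMap.ker_eq_bot, eq_bot_iff]
      intro z hz
      obtain ⟨z, rfl⟩ := Submodule.Quotient.mk_surjective _ z
      replace hz : Submodule.Quotient.mk (p := I'.restrictScalars A) (algebraMap A A' z) = 0 := hz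
      rw [Submodule.Quotient.mk_eq_zero] at hz
      exact (Submodule.mem_bot _).mpr ((Submodule.Quotient.mk_eq_zero _).mpr hz)
    have h1 : y ⊗ₜ[A] (1 : A ⧸ I) = 0 := by
      apply Module.Flat.lTensor_preserves_injective_linearMap (M := A') f hf
      rw [map_zero, LinearMap.lTensor_tmul, ← h0]
      congr 1
      show Submodule.Quotient.mk (algebraMap A A' 1) = _
      rw [map_one]
      rfl
    let Φ : A' ⊗[A] (A ⧸ I) →ₐ[A] A' ⧸ I.map (algebraMap A A') :=
      Algebra.TensorProduct.lift (Ideal.Quotient.mkₐ A _)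
        (Ideal.Quotient.liftₐ I (Algebra.ofId A _) fun z hz => by
          show Ideal.Quotient.mk _ (algebraMap A A' z) = 0
          exact Ideal.Quotient.eq_zero_iff_mem.mpr (Ideal.mem_map_of_mem _ hz))
        fun _ _ => Commute.all _ _
    refine Ideal.Quotient.eq_zero_iff_mem.mp ?_
    simpa [Φ] using congrArg Φ h1
  refine ⟨I, fun hfg => ?_, fun C _ _ => ?_⟩
  · obtain ⟨t, ht⟩ := hfg
    have hfin : ∀ y ∈ (t : Set A'), ∃ K : Ideal A, K.FG ∧ K ≤ I ∧ y ∈ K.map (algebraMap A A') := fun y hy => by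
      have h1 : y ∈ Ideal.span (algebraMap A A' '' (I : Set A)) := heq (ht ▸ Ideal.subset_span hy)
      obtain ⟨T, hT, hyT⟩ := Submodule.mem_span_finite_of_mem_span h1
      obtain ⟨T₀, hT₀, rfl⟩ := Finset.subset_set_image_iff.mp hT
      refine ⟨Ideal.span T₀, ⟨T₀, rfl⟩, Ideal.span_le.mpr hT₀, ?_⟩
      rw [Ideal.map_span]
      rwa [Finset.coe_image] at hyT
    choose! K hKfg hKI hyK using hfin
    have hmap : (t.sup K).map (algebraMap A A') = I' := by
      apply le_antisymm
      · exact Ideal.map_le_iff_le_comap.mpr (Finset.sup_le fun y hy => hKI y hy)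
      · rw [← ht]
        exact Ideal.span_le.mpr fun y hy => Ideal.map_mono (Finset.le_sup (Finset.mem_coe.mp hy)) (hyK y hy)
    have : t.sup K = I := by
      rw [← Ideal.comap_map_eq_self_of_faithfullyFlat (B := A') (t.sup K), hmap]
    rw [← this]
    exact Submodule.fg_finset_sup _ _ fun y hy => hKfg y hy
  let j : C →ₗ[A] A' ⊗[A] C := TensorProduct.mk A A' C 1
  have hj : Function.Injective j := Module.FaithfullyFlat.tensorProduct_mk_injective C
  have hjM : Function.Injective (j.rTensor M) := Module.Flat.rTensor_preserves_injective_linearMap j hj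
  have key := hI' (A' ⊗[A] C) Algebra.TensorProduct.includeLeft
  constructor
  · intro h a ha
    have h2 : (algebraMap A A' a) ⊗ₜ[A] (1 : C) = 0 :=
      key.mp (fun x hx => by
        have := congrArg (j.rTensor M) (h x hx)
        rw [map_zero] at this
        exact this) ha
    refine RingHom.mem_ker.mpr (hj ?_)
    rw [map_zero, ← h2]
    show (1 : A') ⊗ₜ[A] (algebraMap A C a) = _
    rw [Algebra.algebraMap_eq_smul_one, Algebra.algebraMap_eq_smul_one, TensorProduct.smul_tmul]
  · intro h x hx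
    apply hjM
    rw [map_zero]
    refine key.mpr (heq.trans (Ideal.map_le_iff_le_comap.mpr fun a ha => ?_)) x hx
    show (algebraMap A A' a) ⊗ₜ[A] (1 : C) = 0
    rw [Algebra.algebraMap_eq_smul_one, TensorProduct.smul_tmul, ← Algebra.algebraMap_eq_smul_one,
      RingHom.mem_ker.mp (h ha), TensorProduct.tmul_zero]

end Groth.Agent.SmoothWeilLib
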