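import Groth.Agent.SmoothWeilLib.Content
import Groth.Agent.SmoothWeilLib.GroupDense
import Groth.Agent.GrpSchLib.WeilClosed
import Mathlib.AlgebraicGeometry.Morphisms.Etale
import Mathlib.AlgebraicGeometry.Morphisms.FormallyUnramified
import Mathlib.AlgebraicGeometry.Morphisms.UniversallyOpen

/-!
# A smooth group contained in a subobject: the local ideal

Given an étale neighbourhood of the unit section in which a subobject is a closed subscheme, the base changes after which
the subobject is everything are cut out by a finitely generated ideal.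
-/

universe u

open CategoryTheory CategoryTheory.Limits MonoidalCategory CartesianMonoidalCategory MonObj GrpObj AlgebraicGeometry
open TensorProduct

noncomputable section

namespace Groth.Agent.SmoothWeilLib

variable {S : Scheme.{u}} {X Y : Over S}

theorem good_iff (i : Y ⟶ X) (P : Over S) :
    GrpSchLib.Good X.hom i.left P.hom ↔ ∃ l : P ⊗ X ⟶ Y, l ≫ i = snd P X := by
  constructor
  · rintro ⟨l, hl⟩
    refine ⟨Over.homMk l ?_, Over.OverMorphism.ext hl⟩
    rw [← Over.w i, ← Category.assoc]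
    exact (congrArg (· ≫ X.hom) hl).trans pullback.condition.symm
  · rintro ⟨l, hl⟩
    exact ⟨l.left, congrArg (fun k => CommaMorphism.left k) hl⟩

theorem isPullback_whiskerRight {P Q : Over S} (π : P ⟶ Q) (X : Over S) :
    IsPullback (π ▷ X) (fst P X) (fst Q X) π :=
  IsPullback.of_isLimit' ⟨by simp⟩ (PullbackCone.IsLimit.mk _ (fun c => lift c.snd (c.fst ≫ snd Q X))
    (fun c => by
      apply CartesianMonoidalCategory.hom_ext
      · simpa using c.condition.symm
      · simp)
    (fun c => by simp)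
    fun c k h1 h2 => by
      apply CartesianMonoidalCategory.hom_ext
      · simp [← h2]
      · simp [← h1])

variable [GrpObj X] [Smooth X.hom]

set_option maxHeartbeats 1600000 in
/-- The ideal cut out over an affine piece by a chart at the unit section. -/
theorem hasIdeal_of_chart (hconn : ∀ s : S, _root_.IsConnected (X.hom ⁻¹' {s})) (i : Y ⟶ X) [Mono i]
    (e1 : 𝟙_ (Over S) ⟶ Y) (he1 : e1 ≫ i = η[X])
    (hmul : ∀ (T : Over S) (a b : T ⟶ Y), ∃ c : T ⟶ Y, c ≫ i = (a ≫ i) * (b ≫ i))
    {A : Type u} [CommRing A] (a : Spec (CommRingCat.of A) ⟶ S)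
    {E D A' : Type u} [CommRing E] [Algebra A E] [Algebra.Smooth A E] [CommRing D] [CommRing A'] [Algebra A A']
    (φ : E →+* D) (hφ : Function.Surjective φ) (hfg : (RingHom.ker φ).FG)
    (v : Spec (CommRingCat.of E) ⟶ (Over.mk a ⊗ X).left) [Etale v]
    (hv : v ≫ (fst (Over.mk a) X).left = Spec.map (CommRingCat.ofHom (algebraMap A E)))
    (w : Spec (CommRingCat.of D) ⟶ (Over.mk a ⊗ Y).left) [IsOpenImmersion w]
    (hw : w ≫ (Over.mk a ◁ i).left = Spec.map (CommRingCat.ofHom φ) ≫ v)
    (εD : D →+* A') (hεD : Spec.map (CommRingCat.ofHom εD) ≫ w =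
      Spec.map (CommRingCat.ofHom (algebraMap A A')) ≫ (lift (𝟙 (Over.mk a)) (toUnit _ ≫ e1)).left)
    (ε : E →ₐ[A] A') (hε : ε.toRingHom = εD.comp φ) :
    ∃ c : Ideal A', c.FG ∧
      GrpSchLib.HasIdeal X.hom i.left (Spec.map (CommRingCat.ofHom (algebraMap A A')) ≫ a) c := by
  classical
  obtain ⟨s, hs⟩ := hfg
  obtain ⟨c, hcfg, hc⟩ := exists_ideal_rel ε s
  refine ⟨c, hcfg, fun C _ φC => ?_⟩
  letI := φC.toAlgebra
  letI := (φC.comp (algebraMap A A')).toAlgebra
  haveI : IsScalarTower A A' C := IsScalarTower.of_algebraMap_eq fun _ => rfl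
  let κ : Spec (CommRingCat.of C) ⟶ Spec (CommRingCat.of A) := Spec.map (CommRingCat.ofHom (algebraMap A C))
  let PA : Over S := Over.mk a
  let P : Over S := Over.mk (κ ≫ a)
  let π : P ⟶ PA := Over.homMk κ rfl
  let eX : PA ⟶ PA ⊗ X := lift (𝟙 PA) (toUnit PA ≫ η[X])
  let eY : PA ⟶ PA ⊗ Y := lift (𝟙 PA) (toUnit PA ≫ e1)
  let eP : P ⟶ P ⊗ X := lift (𝟙 P) (toUnit P ≫ η[X])
  let iA : PA ⊗ Y ⟶ PA ⊗ X := PA ◁ i
  have heY : eY ≫ iA = eX := by
    apply CartesianMonoidalCategory.hom_ext <;> simp [eX, eY, iA, he1]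
  have hεL : Spec.map (CommRingCat.ofHom ε.toRingHom) ≫ v = Spec.map (CommRingCat.ofHom (algebraMap A A')) ≫ eX.left := by
    rw [hε, CommRingCat.ofHom_comp, Spec.map_comp, Category.assoc, ← hw, ← Category.assoc, hεD, Category.assoc]
    exact congrArg (Spec.map (CommRingCat.ofHom (algebraMap A A')) ≫ ·) (congrArg (fun k => CommaMorphism.left k) heY)
  rw [GrpSchLib.good_congr X.hom i.left (g' := P.hom) (by
    show _ = κ ≫ a
    rw [← Category.assoc, ← Spec.map_comp]
    rfl), good_iff, show RingHom.ker φC = RingHom.ker (algebraMap A' C) from rfl, hc C]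
  -- the chart over `C`
  let T := Spec (CommRingCat.of (C ⊗[A] E))
  let iL : T ⟶ Spec (CommRingCat.of C) :=
    Spec.map (CommRingCat.ofHom (Algebra.TensorProduct.includeLeftRingHom (R := A) (A := C) (B := E)))
  let iR : T ⟶ Spec (CommRingCat.of E) :=
    Spec.map (CommRingCat.ofHom (Algebra.TensorProduct.includeRight (R := A) (A := C) (B := E)).toRingHom)
  have hsq : IsPullback iR iL (Spec.map (CommRingCat.ofHom (algebraMap A E))) κ :=
    (isPullback_SpecMap_of_isPushout _ _ _ _ (CommRingCat.isPushout_tensorProduct A C E)).flip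
  let q : P ⊗ X ⟶ PA ⊗ X := π ▷ X
  have hb : IsPullback q.left (fst P X).left (fst PA X).left κ := (isPullback_whiskerRight π X).map (Over.forget S)
  let VC : T ⟶ (P ⊗ X).left := hb.lift (iR ≫ v) iL (by rw [Category.assoc, hv]; exact hsq.w)
  have hVq : VC ≫ q.left = iR ≫ v := hb.lift_fst _ _ _
  have hVf : VC ≫ (fst P X).left = iL := hb.lift_snd _ _ _
  have htop : IsPullback iR VC v q.left := by
    refine IsPullback.of_bot ?_ hVq.symm hb
    rw [hVf, hv]
    exact hsq
  haveI : Etale VC := MorphismProperty.of_isPullback (P := @Etale) htop ‹Etale v›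
  let εC : C ⊗[A] E →ₐ[C] C := Algebra.TensorProduct.lift (AlgHom.id C C)
    ((IsScalarTower.toAlgHom A A' C).comp ε) fun _ _ => Commute.all _ _
  let sec : Spec (CommRingCat.of C) ⟶ T := Spec.map (CommRingCat.ofHom εC.toRingHom)
  have hsecR : sec ≫ iR = Spec.map (CommRingCat.ofHom φC) ≫ Spec.map (CommRingCat.ofHom ε.toRingHom) := by
    rw [← Spec.map_comp, ← Spec.map_comp]
    congr 1
    ext x
    show εC ((1 : C) ⊗ₜ[A] x) = φC (ε x)
    simp [εC, RingHom.algebraMap_toAlgebra]
  have hsecL : sec ≫ iL = 𝟙 _ := by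
    rw [← Spec.map_comp, ← Spec.map_id]
    congr 1
    ext x
    show εC (x ⊗ₜ[A] (1 : E)) = x
    simp [εC]
  have hκ : Spec.map (CommRingCat.ofHom φC) ≫ Spec.map (CommRingCat.ofHom (algebraMap A A')) = κ := by
    rw [← Spec.map_comp]
    rfl
  have hsec : sec ≫ VC = eP.left := by
    apply hb.hom_ext
    · rw [Category.assoc, hVq, reassoc_of% hsecR, hεL, reassoc_of% hκ]
      show (π ≫ eX).left = (eP ≫ q).left
      congr 1
      apply CartesianMonoidalCategory.hom_ext <;> simp [eX, eP, q]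
    · rw [Category.assoc, hVf, hsecL]
      exact congrArg (fun k => CommaMorphism.left k) (lift_fst (𝟙 P) (toUnit P ≫ η[X])).symm
  constructor
  · rintro ⟨l, hl⟩
    let lA : P ⊗ X ⟶ PA ⊗ Y := lift (fst P X ≫ π) l
    have hlA : lA ≫ iA = q := by
      apply CartesianMonoidalCategory.hom_ext <;> simp [lA, iA, q, hl]
    let lY : T ⟶ (PA ⊗ Y).left := VC ≫ lA.left
    let O : T.Opens := lY ⁻¹ᵁ w.opensRange
    let lw : (O : Scheme.{u}) ⟶ Spec (CommRingCat.of D) :=
      IsOpenImmersion.lift w (O.ι ≫ lY) (by rintro _ ⟨z, rfl⟩; exact z.2)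
    have hlw : lw ≫ w = O.ι ≫ lY := IsOpenImmersion.lift_fac _ _ _
    let t1 : (O : Scheme.{u}) ⟶ Spec (CommRingCat.of E) := O.ι ≫ iR
    let t2 : (O : Scheme.{u}) ⟶ Spec (CommRingCat.of E) := lw ≫ Spec.map (CommRingCat.ofHom φ)
    have ht : t1 ≫ v = t2 ≫ v := by
      simp only [t1, t2, Category.assoc]
      rw [← hw, reassoc_of% hlw, ← hVq]
      simp only [lY, Category.assoc]
      congr 2
      exact (congrArg (fun k => CommaMorphism.left k) hlA).symm
    let pr : (O : Scheme.{u}) ⟶ pullback v v := pullback.lift t1 t2 ht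
    let O' : (O : Scheme.{u}).Opens := pr ⁻¹ᵁ (pullback.diagonal v).opensRange
    have ht12 : O'.ι ≫ t1 = O'.ι ≫ t2 := by
      let r := IsOpenImmersion.lift (pullback.diagonal v) (O'.ι ≫ pr) (by rintro _ ⟨z, rfl⟩; exact z.2)
      have hr : r ≫ pullback.diagonal v = O'.ι ≫ pr := IsOpenImmersion.lift_fac _ _ _
      have h1 := congrArg (· ≫ pullback.fst v v) hr
      have h2 := congrArg (· ≫ pullback.snd v v) hr
      simp only [pr, Category.assoc, pullback.diagonal_fst, Category.comp_id] at h1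
      simp only [pr, Category.assoc, pullback.diagonal_snd, Category.comp_id] at h2
      rw [pullback.lift_fst] at h1
      rw [pullback.lift_snd] at h2
      rw [← h1, ← h2]
    let d : Spec (CommRingCat.of C) ⟶ Spec (CommRingCat.of D) :=
      Spec.map (CommRingCat.ofHom φC) ≫ Spec.map (CommRingCat.ofHom εD)
    have hsY : sec ≫ lY = d ≫ w := by
      simp only [lY, d, Category.assoc]
      rw [hεD, reassoc_of% hsec, reassoc_of% hκ]
      show (eP ≫ lA).left = (π ≫ eY).left
      congr 1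
      apply CartesianMonoidalCategory.hom_ext
      · simp [eP, lA, eY]
      · rw [← cancel_mono i]
        simp [eP, lA, eY, hl, he1]
    have hsO : Set.range sec ⊆ Set.range O.ι := by
      rintro _ ⟨z, rfl⟩
      rw [Scheme.Opens.range_ι]
      show lY (sec z) ∈ w.opensRange
      exact ⟨d z, by rw [← Scheme.Hom.comp_apply, ← hsY, Scheme.Hom.comp_apply]⟩
    let secO := IsOpenImmersion.lift O.ι sec hsO
    have hsecO : secO ≫ O.ι = sec := IsOpenImmersion.lift_fac _ _ _
    have hsd : secO ≫ lw = d := by rw [← cancel_mono w, Category.assoc, hlw, reassoc_of% hsecO, hsY]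
    have hs12 : secO ≫ t1 = secO ≫ t2 := by
      simp only [t1, t2]
      rw [reassoc_of% hsecO, reassoc_of% hsd, hsecR]
      simp only [d, Category.assoc]
      rw [hε, CommRingCat.ofHom_comp, Spec.map_comp]
    have hspr : ∀ z, pr (secO z) ∈ (pullback.diagonal v).opensRange := fun z => by
      refine ⟨(secO ≫ t1) z, ?_⟩
      have h : (secO ≫ t1) ≫ pullback.diagonal v = secO ≫ pr := by
        apply pullback.hom_ext
        · rw [Category.assoc, pullback.diagonal_fst, Category.comp_id, Category.assoc, pullback.lift_fst]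
        · rw [Category.assoc, pullback.diagonal_snd, Category.comp_id, Category.assoc, pullback.lift_snd, hs12]
      exact congrArg (fun k => k z) h
    let L := (O'.ι ≫ O.ι).opensRange
    obtain ⟨I, hI⟩ := (PrimeSpectrum.isClosed_iff_zeroLocus_ideal _).mp L.2.isClosed_compl
    have hIset : ∀ x : PrimeSpectrum (C ⊗[A] E), (x : T) ∉ L ↔ x ∈ PrimeSpectrum.zeroLocus (I : Set (C ⊗[A] E)) :=
      fun x => Set.ext_iff.mp hI x
    have htop : I ⊔ RingHom.ker εC = ⊤ := by
      by_contra h
      obtain ⟨M, hM, hIM⟩ := Ideal.exists_le_maximal _ h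
      have hsurj : Function.Surjective εC := fun x => ⟨x ⊗ₜ 1, by simp [εC]⟩
      haveI : (M.map εC.toRingHom).IsPrime :=
        Ideal.map_isPrime_of_surjective (f := εC.toRingHom) hsurj (le_sup_right.trans hIM)
      let z : Spec (CommRingCat.of C) := (⟨M.map εC.toRingHom, ‹_›⟩ : PrimeSpectrum C)
      have hz : sec z = (⟨M, hM.isPrime⟩ : PrimeSpectrum (C ⊗[A] E)) := by
        apply PrimeSpectrum.ext
        show (M.map εC.toRingHom).comap εC.toRingHom = M
        rw [Ideal.comap_map_of_surjective εC.toRingHom hsurj, sup_eq_left]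
        exact le_sup_right.trans hIM
      apply (hIset _).mpr (show (⟨M, hM.isPrime⟩ : PrimeSpectrum (C ⊗[A] E)) ∈ PrimeSpectrum.zeroLocus (I : Set (C ⊗[A] E)) from
        le_sup_left.trans hIM)
      rw [← hz, ← hsecO, Scheme.Hom.comp_apply]
      exact ⟨⟨secO z, hspr z⟩, rfl⟩
    obtain ⟨u₀, hu₀, j₀, hj₀, huj⟩ := Submodule.mem_sup.mp (show (1 : C ⊗[A] E) ∈ I ⊔ RingHom.ker εC by rw [htop]; trivial)
    have hεu : εC u₀ = 1 := by
      have h := congrArg εC huj
      rwa [map_add, RingHom.mem_ker.mp hj₀, add_zero, map_one] at h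
    let F := Localization.Away u₀
    let jF : Spec (CommRingCat.of F) ⟶ T := Spec.map (CommRingCat.ofHom (algebraMap (C ⊗[A] E) F))
    have hjF : Set.range jF ⊆ Set.range (O'.ι ≫ O.ι) := by
      rintro x hx
      have hx' : x ∈ Set.range (PrimeSpectrum.comap (algebraMap (C ⊗[A] E) F)) := hx
      rw [PrimeSpectrum.localization_away_comap_range F u₀] at hx'
      by_contra hxL
      exact hx' ((hIset x).mp hxL hu₀)
    let r := IsOpenImmersion.lift (O'.ι ≫ O.ι) jF hjF
    have hr : r ≫ O'.ι ≫ O.ι = jF := IsOpenImmersion.lift_fac _ _ _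
    have hrw : jF ≫ iR = (r ≫ O'.ι ≫ lw) ≫ Spec.map (CommRingCat.ofHom φ) := by
      rw [← hr]
      simp only [Category.assoc]
      exact congrArg (r ≫ ·) ht12
    obtain ⟨ρ, hρ⟩ := Spec.map_surjective (r ≫ O'.ι ≫ lw)
    rw [← hρ, ← Spec.map_comp, ← Spec.map_comp] at hrw
    have hzero : ∀ x ∈ s, algebraMap (C ⊗[A] E) F ((1 : C) ⊗ₜ[A] x) = 0 := fun x hx => by
      have h := RingHom.congr_fun (congrArg CommRingCat.Hom.hom (Spec.map_injective hrw)) x
      have hxk : φ x = 0 := RingHom.mem_ker.mp (hs ▸ Ideal.subset_span hx)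
      refine h.trans ?_
      show ρ.hom (φ x) = 0
      rw [hxk, map_zero]
    have hN : ∀ x ∈ s, ∃ N : ℕ, u₀ ^ N * ((1 : C) ⊗ₜ[A] x) = 0 := fun x hx => by
      obtain ⟨⟨_, N, rfl⟩, hN⟩ := (IsLocalization.map_eq_zero_iff (Submonoid.powers u₀) F _).mp (hzero x hx)
      exact ⟨N, hN⟩
    choose N hN using hN
    refine ⟨u₀ ^ s.attach.sup (fun x => N x.1 x.2), by rw [map_pow, hεu, one_pow], fun x hx => ?_⟩
    obtain ⟨d', hd'⟩ : ∃ d', s.attach.sup (fun x => N x.1 x.2) = N x hx + d' :=
      Nat.exists_eq_add_of_le (Finset.le_sup (f := fun x : {x // x ∈ s} => N x.1 x.2) (Finset.mem_attach s ⟨x, hx⟩))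
    rw [hd', add_comm, pow_add, _root_.mul_assoc, hN x hx, mul_zero]
  · rintro ⟨u₀, hεu, hux⟩
    let F := Localization.Away u₀
    let jF : Spec (CommRingCat.of F) ⟶ T := Spec.map (CommRingCat.ofHom (algebraMap (C ⊗[A] E) F))
    haveI : IsOpenImmersion jF := IsOpenImmersion.of_isLocalization u₀
    let ψ : E →+* F := (algebraMap (C ⊗[A] E) F).comp
      (Algebra.TensorProduct.includeRight (R := A) (A := C) (B := E)).toRingHom
    have hle : RingHom.ker φ ≤ RingHom.ker ψ := by
      rw [← hs]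
      refine Ideal.span_le.mpr fun x hx => ?_
      show algebraMap (C ⊗[A] E) F ((1 : C) ⊗ₜ[A] x) = 0
      have h := congrArg (algebraMap (C ⊗[A] E) F) (hux x hx)
      rw [map_mul, map_zero] at h
      exact (IsLocalization.Away.algebraMap_isUnit u₀).mul_right_eq_zero.mp h
    let ρ : D →+* F := RingHom.liftOfSurjective φ hφ ⟨ψ, hle⟩
    have hρ : ρ.comp φ = ψ := RingHom.liftOfRightInverse_comp _ _ _ _
    let m : Spec (CommRingCat.of F) ⟶ (P ⊗ X).left := jF ≫ VC
    let β₀ : Spec (CommRingCat.of F) ⟶ Y.left := Spec.map (CommRingCat.ofHom ρ) ≫ w ≫ (snd PA Y).left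
    have hβ₀ : β₀ ≫ i.left = m ≫ (snd P X).left := by
      have e1 : (snd PA Y).left ≫ i.left = iA.left ≫ (snd PA X).left :=
        congrArg (fun k => CommaMorphism.left k) (whiskerLeft_snd PA i).symm
      have e2 : (snd P X).left = q.left ≫ (snd PA X).left :=
        congrArg (fun k => CommaMorphism.left k) (whiskerRight_snd π X).symm
      simp only [β₀, m, Category.assoc]
      rw [e1, reassoc_of% hw, e2, reassoc_of% hVq, ← Spec.map_comp_assoc, ← CommRingCat.ofHom_comp, hρ,
        CommRingCat.ofHom_comp, Spec.map_comp_assoc]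
    let U : (P ⊗ X).left.Opens := ⟨Set.range m, m.isOpenMap.isOpen_range⟩
    let qU : Spec (CommRingCat.of F) ⟶ U := IsOpenImmersion.lift U.ι m (by rw [Scheme.Opens.range_ι]; rfl)
    have hqU : qU ≫ U.ι = m := IsOpenImmersion.lift_fac _ _ _
    haveI : Etale qU := by
      have h : IsPullback (𝟙 (Spec (CommRingCat.of F))) qU m U.ι :=
        IsPullback.of_isLimit' ⟨by rw [hqU, Category.id_comp]⟩ (PullbackCone.IsLimit.mk _ (fun c => c.fst)
          (fun c => Category.comp_id _)
          (fun c => by rw [← cancel_mono U.ι, Category.assoc, hqU]; exact c.condition)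
          fun c k h1 _ => by simpa using h1)
      exact MorphismProperty.of_isPullback (P := @Etale) h inferInstance
    haveI : Surjective qU := ⟨fun z => by
      obtain ⟨x, hx⟩ := (show z.1 ∈ Set.range m from z.2)
      refine ⟨x, Subtype.ext ?_⟩
      rw [← hx, ← hqU, Scheme.Hom.comp_apply]
      rfl⟩
    let Uo : Over S := Over.mk (U.ι ≫ (P ⊗ X).hom)
    let Fo : Over S := Over.mk (m ≫ (P ⊗ X).hom)
    let jU : Uo ⟶ P ⊗ X := Over.homMk U.ι rfl
    let qo : Fo ⟶ Uo := Over.homMk qU (by show qU ≫ U.ι ≫ _ = _; rw [reassoc_of% hqU]; rfl)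
    let βo : Fo ⟶ Y := Over.homMk β₀ (by
      show β₀ ≫ Y.hom = m ≫ (P ⊗ X).hom
      rw [← Over.w i, reassoc_of% hβ₀, Over.w (snd P X)])
    have hβo : βo ≫ i = qo ≫ jU ≫ snd P X := Over.OverMorphism.ext (by
      show β₀ ≫ i.left = qU ≫ U.ι ≫ (snd P X).left
      rw [reassoc_of% hqU, hβ₀])
    have hcov : FpqcDescLib.Covers qo.left :=
      FpqcDescLib.covers_of_isCovering (FpqcDescLib.isCovering_of_lfp qU)
    haveI := hcov.over_epi
    obtain ⟨β, hβ, -⟩ := hcov.over_desc βo fun Z x y h => by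
      rw [← cancel_mono i, Category.assoc, Category.assoc, hβo, ← Category.assoc, h, Category.assoc]
    refine exists_extend hconn i hmul P U (fun z => ?_) β (by
      rw [← cancel_epi qo, ← Category.assoc, hβ, hβo])
    have hu' : IsUnit (εC.toRingHom u₀) := by
      show IsUnit (εC u₀)
      rw [show εC u₀ = 1 from hεu]
      exact isUnit_one
    let χ : F →+* C := IsLocalization.Away.lift u₀ hu'
    have hχ : Spec.map (CommRingCat.ofHom χ) ≫ jF = sec := by
      rw [← Spec.map_comp, ← CommRingCat.ofHom_comp, IsLocalization.Away.lift_comp]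
    refine ⟨eP.left z, ⟨Spec.map (CommRingCat.ofHom χ) z, ?_⟩, ?_⟩
    · show (jF ≫ VC) _ = _
      rw [← hsec, ← hχ]
      simp only [Scheme.Hom.comp_apply]
    · show (fst P X).left (eP.left z) = z
      rw [← Scheme.Hom.comp_apply, ← Over.comp_left, lift_fst]
      rfl

end Groth.Agent.SmoothWeilLib
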