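import Groth.Agent.SmoothWeilLib.GroupChart
import Groth.Agent.GrpSchLib.CoincidenceFP
import Mathlib.RingTheory.Unramified.LocalStructure
import Mathlib.AlgebraicGeometry.Morphisms.FinitePresentation

/-!
# Weil restriction of a multiplicatively closed subobject of a smooth group with connected fibres

For a monomorphism locally of finite presentation into a smooth group with connected fibres, containing the unit section
and stable under products, the base changes after which it is everything are those factoring through a closed subscheme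
of finite presentation.
-/

universe u

open CategoryTheory CategoryTheory.Limits MonoidalCategory CartesianMonoidalCategory MonObj GrpObj AlgebraicGeometry

noncomputable section

namespace Groth.Agent.SmoothWeilLib

variable {S : Scheme.{u}} {X Y : Over S}

theorem isPullback_whiskerLeft' (P : Over S) (i : Y ⟶ X) : IsPullback (snd P Y) (P ◁ i) i (snd P X) :=
  IsPullback.of_isLimit' ⟨by simp⟩ (PullbackCone.IsLimit.mk _ (fun c => lift (c.snd ≫ fst P X) c.fst)
    (fun c => by simp)
    (fun c => by
      apply CartesianMonoidalCategory.hom_ext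
      · simp
      · simpa using c.condition)
    fun c k h1 h2 => by
      apply CartesianMonoidalCategory.hom_ext
      · simp [← h2]
      · simp [← h1])

variable [GrpObj X] [Smooth X.hom] (hconn : ∀ s : S, _root_.IsConnected (X.hom ⁻¹' {s})) (i : Y ⟶ X) [Mono i]
  [LocallyOfFinitePresentation i.left] (e1 : 𝟙_ (Over S) ⟶ Y) (he1 : e1 ≫ i = η[X])
  (hmul : ∀ (T : Over S) (a b : T ⟶ Y), ∃ c : T ⟶ Y, c ≫ i = (a ≫ i) * (b ≫ i))

include hconn he1 hmul

set_option maxHeartbeats 1600000 in
/-- Near each point of an affine piece the base changes are cut out by a finitely generated ideal. -/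
theorem exists_local {A : Type u} [CommRing A] (a : Spec (CommRingCat.of A) ⟶ S) (p : PrimeSpectrum A) :
    ∃ f : A, f ∉ p.asIdeal ∧ ∃ c : Ideal (Localization.Away f), c.FG ∧
      GrpSchLib.HasIdeal X.hom i.left
        (Spec.map (CommRingCat.ofHom (algebraMap A (Localization.Away f))) ≫ a) c := by
  classical
  let PA : Over S := Over.mk a
  let eX : PA ⟶ PA ⊗ X := lift (𝟙 PA) (toUnit PA ≫ η[X])
  let eY : PA ⟶ PA ⊗ Y := lift (𝟙 PA) (toUnit PA ≫ e1)
  let iA : PA ⊗ Y ⟶ PA ⊗ X := PA ◁ i
  have heY : eY ≫ iA = eX := by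
    apply CartesianMonoidalCategory.hom_ext <;> simp [eX, eY, iA, he1]
  haveI : LocallyOfFinitePresentation iA.left :=
    MorphismProperty.of_isPullback (P := @LocallyOfFinitePresentation)
      ((isPullback_whiskerLeft' PA i).map (Over.forget S)) ‹LocallyOfFinitePresentation i.left›
  haveI : Mono iA := ⟨fun g h e => by
    apply CartesianMonoidalCategory.hom_ext
    · simpa [iA] using congrArg (· ≫ fst PA X) e
    · rw [← cancel_mono i]
      simpa [iA] using congrArg (· ≫ snd PA X) e⟩
  haveI : Mono iA.left := Over.mono_left_of_mono iA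
  haveI : FormallyUnramified iA.left := inferInstance
  haveI : Smooth (fst PA X).left := inferInstanceAs (Smooth (pullback.fst a X.hom))
  obtain ⟨W, hW, hxW, -⟩ := exists_isAffineOpen_mem_and_subset (show eX.left p ∈ (⊤ : (PA ⊗ X).left.Opens) from trivial)
  have hyW : eY.left p ∈ iA.left ⁻¹ᵁ W := by
    show iA.left (eY.left p) ∈ W
    rw [← Scheme.Hom.comp_apply, ← Over.comp_left, heY]
    exact hxW
  obtain ⟨V, hV, hyV, hVW⟩ := exists_isAffineOpen_mem_and_subset hyW
  let R : Type u := Γ((PA ⊗ X).left, W)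
  let B : Type u := Γ((PA ⊗ Y).left, V)
  let θ : CommRingCat.of A ⟶ Γ((PA ⊗ X).left, W) := Spec.preimage (hW.fromSpec ≫ (fst PA X).left)
  have hθ : Spec.map θ = hW.fromSpec ≫ (fst PA X).left := Spec.map_preimage _
  letI : Algebra A R := θ.hom.toAlgebra
  letI : Algebra R B := (iA.left.appLE W V hVW).hom.toAlgebra
  haveI : Algebra.Smooth A R := by
    have h : Smooth (Spec.map θ) := by rw [hθ]; infer_instance
    exact RingHom.smooth_algebraMap.mp ((HasRingHomProperty.Spec_iff (P := @Smooth) (φ := θ)).mp h)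
  haveI : Algebra.FinitePresentation R B := RingHom.finitePresentation_algebraMap.mp
    (HasRingHomProperty.appLE @LocallyOfFinitePresentation iA.left inferInstance ⟨W, hW⟩ ⟨V, hV⟩ hVW)
  haveI : Algebra.FormallyUnramified R B := RingHom.formallyUnramified_algebraMap.mp
    (HasRingHomProperty.appLE @FormallyUnramified iA.left inferInstance ⟨W, hW⟩ ⟨V, hV⟩ hVW)
  let Q := hV.primeIdealOf ⟨eY.left p, hyV⟩
  haveI : Algebra.IsUnramifiedAt R Q.asIdeal :=
    Algebra.FormallyUnramified.comp R B (Localization.AtPrime Q.asIdeal)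
  obtain ⟨g, hg, SP, φ₀, hφ₀⟩ := Algebra.IsUnramifiedAt.exists_hasStandardEtaleSurjectionOn (R := R) Q.asIdeal
  letI : Algebra A SP.Ring := ((algebraMap R SP.Ring).comp θ.hom).toAlgebra
  haveI : IsScalarTower A R SP.Ring := IsScalarTower.of_algebraMap_eq fun _ => rfl
  haveI : Algebra.Smooth A SP.Ring := Algebra.Smooth.comp A R SP.Ring
  let v : Spec (CommRingCat.of SP.Ring) ⟶ (PA ⊗ X).left :=
    Spec.map (CommRingCat.ofHom (algebraMap R SP.Ring)) ≫ hW.fromSpec
  haveI : Etale (Spec.map (CommRingCat.ofHom (algebraMap R SP.Ring))) := by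
    rw [HasRingHomProperty.Spec_iff (P := @Etale), CommRingCat.hom_ofHom, RingHom.etale_algebraMap]
    infer_instance
  haveI : Etale v := inferInstanceAs (Etale (Spec.map (CommRingCat.ofHom (algebraMap R SP.Ring)) ≫ hW.fromSpec))
  have hv : v ≫ (fst PA X).left = Spec.map (CommRingCat.ofHom (algebraMap A SP.Ring)) := by
    show (Spec.map (CommRingCat.ofHom (algebraMap R SP.Ring)) ≫ hW.fromSpec) ≫ (fst PA X).left = _
    rw [Category.assoc, ← hθ, ← Spec.map_comp]
    rfl
  let w : Spec (CommRingCat.of (Localization.Away g)) ⟶ (PA ⊗ Y).left :=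
    Spec.map (CommRingCat.ofHom (algebraMap B (Localization.Away g))) ≫ hV.fromSpec
  haveI : IsOpenImmersion (Spec.map (CommRingCat.ofHom (algebraMap B (Localization.Away g)))) :=
    IsOpenImmersion.of_isLocalization g
  haveI : IsOpenImmersion w := inferInstanceAs
    (IsOpenImmersion (Spec.map (CommRingCat.ofHom (algebraMap B (Localization.Away g))) ≫ hV.fromSpec))
  have hw : w ≫ iA.left = Spec.map (CommRingCat.ofHom φ₀.toRingHom) ≫ v := by
    show (Spec.map (CommRingCat.ofHom (algebraMap B (Localization.Away g))) ≫ hV.fromSpec) ≫ iA.left = _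
    rw [Category.assoc, ← IsAffineOpen.SpecMap_appLE_fromSpec iA.left hW hV hVW]
    show _ = Spec.map _ ≫ Spec.map _ ≫ hW.fromSpec
    rw [← Spec.map_comp_assoc, ← Spec.map_comp_assoc]
    congr 2
    ext r
    exact ((φ₀.commutes r).trans (IsScalarTower.algebraMap_apply R B (Localization.Away g) r)).symm
  have hp : p ∈ eY.left ⁻¹ᵁ w.opensRange := by
    show eY.left p ∈ w.opensRange
    have hQ : Q ∈ Set.range (PrimeSpectrum.comap (algebraMap B (Localization.Away g))) := by
      rw [PrimeSpectrum.localization_away_comap_range (Localization.Away g) g]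
      exact hg
    obtain ⟨z, hz⟩ := hQ
    refine ⟨z, ?_⟩
    show hV.fromSpec (Spec.map (CommRingCat.ofHom (algebraMap B (Localization.Away g))) z) = _
    exact (congrArg (fun q => hV.fromSpec q) hz).trans (hV.fromSpec_primeIdealOf ⟨eY.left p, hyV⟩)
  obtain ⟨_, ⟨f, rfl⟩, hpf, hsub⟩ :=
    PrimeSpectrum.isTopologicalBasis_basic_opens.exists_subset_of_mem_open hp (eY.left ⁻¹ᵁ w.opensRange).2
  let jf : Spec (CommRingCat.of (Localization.Away f)) ⟶ PA.left :=
    Spec.map (CommRingCat.ofHom (algebraMap A (Localization.Away f)))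
  have hr : Set.range (jf ≫ eY.left) ⊆ Set.range w := by
    rintro _ ⟨z, rfl⟩
    refine hsub ?_
    have : jf z ∈ Set.range (PrimeSpectrum.comap (algebraMap A (Localization.Away f))) := ⟨z, rfl⟩
    rw [PrimeSpectrum.localization_away_comap_range (Localization.Away f) f] at this
    exact this
  obtain ⟨εD, hεD⟩ := Spec.map_surjective (IsOpenImmersion.lift w (jf ≫ eY.left) hr)
  have hεw : Spec.map εD ≫ w = jf ≫ eY.left := by rw [hεD, IsOpenImmersion.lift_fac]
  have hcomm : (εD.hom.comp φ₀.toRingHom).comp (algebraMap A SP.Ring) = algebraMap A (Localization.Away f) := by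
    have h : CommRingCat.ofHom (algebraMap A SP.Ring) ≫ CommRingCat.ofHom φ₀.toRingHom ≫ εD =
        CommRingCat.ofHom (algebraMap A (Localization.Away f)) := by
      apply Spec.map_injective
      rw [Spec.map_comp, Spec.map_comp, Category.assoc, ← hv, ← reassoc_of% hw, reassoc_of% hεw]
      show jf ≫ (eY ≫ iA ≫ fst PA X).left = jf
      rw [show eY ≫ iA ≫ fst PA X = 𝟙 PA by simp [eY, iA]]
      exact Category.comp_id _
    exact congrArg CommRingCat.Hom.hom h
  haveI : Algebra.FinitePresentation R (Localization.Away g) := by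
    haveI : Algebra.FinitePresentation B (Localization.Away g) := IsLocalization.Away.finitePresentation g
    exact Algebra.FinitePresentation.trans R B _
  refine ⟨f, hpf, hasIdeal_of_chart hconn i e1 he1 hmul a φ₀.toRingHom hφ₀ ?_ v hv w hw εD.hom hεw
    { toRingHom := εD.hom.comp φ₀.toRingHom, commutes' := fun r => RingHom.congr_fun hcomm r } rfl⟩
  exact Algebra.FinitePresentation.ker_fG_of_surjective φ₀ hφ₀

/-- The Weil restriction of the subobject is a closed subscheme of finite presentation. -/
theorem exists_weil :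
    ∃ (T : Scheme.{u}) (t : T ⟶ S), IsClosedImmersion t ∧ LocallyOfFinitePresentation t ∧
      ∀ (S' : Scheme.{u}) (g : S' ⟶ S), (∃ g' : S' ⟶ T, g' ≫ t = g) ↔ GrpSchLib.Good X.hom i.left g := by
  haveI : Mono i.left := Over.mono_left_of_mono i
  have hI : GrpSchLib.HasIdeals X.hom i.left := fun U => by
    refine GrpSchLib.hasIdeal_of_span _ {f : Γ(S, U) | ∃ c, GrpSchLib.HasIdeal X.hom i.left
      (Spec.map (CommRingCat.ofHom (algebraMap Γ(S, U) (Localization.Away f))) ≫ U.2.fromSpec) c} ?_ fun f => f.2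
    by_contra h
    obtain ⟨m, hm, hle⟩ := Ideal.exists_le_maximal _ h
    obtain ⟨f, hf, c, -, hc⟩ := exists_local hconn i e1 he1 hmul U.2.fromSpec ⟨m, hm.isPrime⟩
    exact hf (hle (Ideal.subset_span ⟨c, hc⟩))
  obtain ⟨T, t, ht, hT⟩ := GrpSchLib.exists_weilRestriction hI
  refine ⟨T, t, ht, GrpSchLib.locallyOfFinitePresentation_of_hasIdeal hT fun x => ?_, hT⟩
  obtain ⟨U, hU, hxU, -⟩ := exists_isAffineOpen_mem_and_subset (show x ∈ (⊤ : S.Opens) from trivial)
  obtain ⟨f, hf, c, hfg, hc⟩ := exists_local hconn i e1 he1 hmul hU.fromSpec (hU.primeIdealOf ⟨x, hxU⟩)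
  haveI : IsOpenImmersion (Spec.map (CommRingCat.ofHom (algebraMap Γ(S, U) (Localization.Away f)))) :=
    IsOpenImmersion.of_isLocalization f
  refine ⟨Localization.Away f, inferInstance, _, inferInstance, ?_, c, hc, hfg⟩
  have hQ : hU.primeIdealOf ⟨x, hxU⟩ ∈ Set.range (PrimeSpectrum.comap (algebraMap Γ(S, U) (Localization.Away f))) := by
    rw [PrimeSpectrum.localization_away_comap_range (Localization.Away f) f]
    exact hf
  obtain ⟨z, hz⟩ := hQ
  exact ⟨z, (congrArg (fun q => hU.fromSpec q) hz).trans (hU.fromSpec_primeIdealOf ⟨x, hxU⟩)⟩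

end Groth.Agent.SmoothWeilLib
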