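import Mathlib.RingTheory.MvPolynomial.Ideal
import Mathlib.RingTheory.Smooth.NoetherianDescent
import Mathlib.RingTheory.Smooth.Flat
import Mathlib.RingTheory.Flat.Basic
import Mathlib.RingTheory.Filtration
import Mathlib.RingTheory.TensorProduct.Finite
import Mathlib.RingTheory.Ideal.Quotient.Operations

/-!
# Taylor expansion along a section of a smooth algebra

The quotients by the powers of the kernel of a section of a smooth algebra are projective, and an element in all these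
powers is killed by an element which is `1` along the section.
-/

universe u

open TensorProduct

namespace Groth.Agent.SmoothWeilLib

variable {A E : Type u} [CommRing A] [CommRing E] [Algebra A E]

/-- The infinitesimal neighbourhoods of a section of a smooth algebra are projective. -/
theorem projective_quot [Algebra.Smooth A E] (ε : E →ₐ[A] A) (n : ℕ) :
    Module.Projective A (E ⧸ RingHom.ker ε ^ n) := by
  classical
  obtain ⟨m, f₀, hf₀⟩ := Algebra.FiniteType.iff_quotient_mvPolynomial''.mp (inferInstance : Algebra.FiniteType A E)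
  let c : Fin m → A := fun i => ε (f₀ (MvPolynomial.X i))
  let f : MvPolynomial (Fin m) A →ₐ[A] E := MvPolynomial.aeval fun i => f₀ (MvPolynomial.X i) - algebraMap A E (c i)
  have hcomp : f.comp (MvPolynomial.aeval fun i => MvPolynomial.X i + MvPolynomial.C (c i)) = f₀ :=
    MvPolynomial.algHom_ext fun i => by simp [f]
  have hf : Function.Surjective f := fun b => by
    obtain ⟨q, hq⟩ := hf₀ b
    exact ⟨_, (DFunLike.congr_fun hcomp q).trans hq⟩
  have hε : ∀ q, ε (f q) = MvPolynomial.constantCoeff q := fun q => by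
    induction q using MvPolynomial.induction_on with
    | C a => simp
    | add p q hp hq => simp [hp, hq]
    | mul_X p i hp => simp [hp, f, c]
  let I := MvPolynomial.idealOfVars (Fin m) A
  have hmemI : ∀ q : MvPolynomial (Fin m) A, MvPolynomial.constantCoeff q = 0 → q ∈ I := fun q hq => by
    rw [← pow_one I, MvPolynomial.mem_pow_idealOfVars_iff']
    intro x hx
    obtain rfl : x = 0 := (Finsupp.degree_eq_zero_iff x).1 (by omega)
    exact hq
  let J := RingHom.ker ε
  have hIJ : I.map f ≤ J := by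
    rw [Ideal.map_le_iff_le_comap, show I = Ideal.span (Set.range MvPolynomial.X) from rfl, Ideal.span_le]
    rintro _ ⟨i, rfl⟩
    show ε (f (MvPolynomial.X i)) = 0
    rw [hε]
    simp
  have hker : ∀ a ∈ I ^ n, ((Ideal.Quotient.mkₐ A (J ^ n)).comp f) a = 0 := fun a ha => by
    show Ideal.Quotient.mk (J ^ n) (f a) = 0
    rw [Ideal.Quotient.eq_zero_iff_mem]
    have := Ideal.mem_map_of_mem f ha
    rw [Ideal.map_pow] at this
    exact Ideal.pow_right_mono hIJ n this
  let π : (MvPolynomial (Fin m) A ⧸ I ^ n) →ₐ[A] E ⧸ J ^ n := Ideal.Quotient.liftₐ _ _ hker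
  have hπ : ∀ q, π (Ideal.Quotient.mk _ q) = Ideal.Quotient.mk _ (f q) := fun q => rfl
  have hπs : Function.Surjective π := fun y => by
    obtain ⟨b, rfl⟩ := Ideal.Quotient.mk_surjective y
    obtain ⟨q, rfl⟩ := hf b
    exact ⟨_, hπ q⟩
  have hπI : ∀ q, Ideal.Quotient.mk (J ^ n) (f q) ∈ J.map (Ideal.Quotient.mk (J ^ n)) → n ≠ 0 →
      Ideal.Quotient.mk (I ^ n) q ∈ I.map (Ideal.Quotient.mk (I ^ n)) := fun q hq hn => by
    refine Ideal.mem_map_of_mem _ (hmemI q ?_)
    rw [← hε]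
    rw [Ideal.mem_map_iff_of_surjective _ Ideal.Quotient.mk_surjective] at hq
    obtain ⟨b, hb, hbq⟩ := hq
    have h2 : f q - b ∈ J := Ideal.pow_le_self hn (Ideal.Quotient.eq.mp hbq.symm)
    have : f q ∈ J := by simpa using J.add_mem h2 hb
    exact this
  have hnil : IsNilpotent (RingHom.ker (π : (MvPolynomial (Fin m) A ⧸ I ^ n) →+* E ⧸ J ^ n)) := by
    refine ⟨n, ?_⟩
    rw [Ideal.zero_eq_bot, eq_bot_iff]
    rcases eq_or_ne n 0 with rfl | hn
    · haveI : Subsingleton (MvPolynomial (Fin m) A ⧸ I ^ 0) :=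
        Ideal.Quotient.subsingleton_iff.mpr (by rw [pow_zero, Ideal.one_eq_top])
      exact fun x _ => by rw [Ideal.mem_bot]; exact Subsingleton.elim _ _
    · refine (Ideal.pow_right_mono (J := I.map (Ideal.Quotient.mk (I ^ n))) (fun y hy => ?_) n).trans ?_
      · obtain ⟨q, rfl⟩ := Ideal.Quotient.mk_surjective y
        refine hπI q ?_ hn
        rw [show Ideal.Quotient.mk (J ^ n) (f q) = 0 from (hπ q).symm.trans hy]
        exact zero_mem _
      · rw [← Ideal.map_pow, Ideal.map_quotient_self]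
  let g : E →ₐ[A] MvPolynomial (Fin m) A ⧸ I ^ n :=
    Algebra.FormallySmooth.liftOfSurjective (Ideal.Quotient.mkₐ A (J ^ n)) π hπs hnil
  have hg : ∀ b, π (g b) = Ideal.Quotient.mk _ b :=
    DFunLike.congr_fun (Algebra.FormallySmooth.comp_liftOfSurjective (Ideal.Quotient.mkₐ A (J ^ n)) π hπs hnil)
  have hgJ : ∀ b ∈ J ^ n, g b = 0 := by
    rcases eq_or_ne n 0 with rfl | hn
    · haveI : Subsingleton (MvPolynomial (Fin m) A ⧸ I ^ 0) :=
        Ideal.Quotient.subsingleton_iff.mpr (by rw [pow_zero, Ideal.one_eq_top])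
      exact fun b _ => Subsingleton.elim _ _
    intro b hb
    have h1 : J.map g ≤ I.map (Ideal.Quotient.mk (I ^ n)) := by
      rw [Ideal.map_le_iff_le_comap]
      intro b hb
      obtain ⟨q, hq⟩ := Ideal.Quotient.mk_surjective (g b)
      rw [Ideal.mem_comap, ← hq]
      refine hπI q ?_ hn
      rw [← hπ, hq, hg]
      exact Ideal.mem_map_of_mem _ hb
    have h2 := Ideal.pow_right_mono h1 n (Ideal.map_pow g J n ▸ Ideal.mem_map_of_mem g hb)
    rwa [← Ideal.map_pow, Ideal.map_quotient_self, Ideal.mem_bot] at h2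
  let g' : E ⧸ J ^ n →ₐ[A] MvPolynomial (Fin m) A ⧸ I ^ n := Ideal.Quotient.liftₐ _ g hgJ
  let T : MvPolynomial (Fin m) A →ₗ[A] MvPolynomial (Fin m) A :=
    (MvPolynomial.basisMonomials (Fin m) A).constr ℕ fun d => if d.degree < n then MvPolynomial.monomial d 1 else 0
  have hT : ∀ (d : Fin m →₀ ℕ) (r : A),
      T (MvPolynomial.monomial d r) = if d.degree < n then MvPolynomial.monomial d r else 0 := fun d r => by
    rw [show MvPolynomial.monomial d r = r • MvPolynomial.monomial d (1 : A) by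
      rw [MvPolynomial.smul_monomial, smul_eq_mul, mul_one], map_smul]
    rw [show T (MvPolynomial.monomial d 1) = _ from Module.Basis.constr_basis _ ℕ _ d]
    split_ifs <;> simp [MvPolynomial.smul_monomial]
  have hT0 : ∀ q ∈ I ^ n, T q = 0 := fun q hq => by
    rw [← q.support_sum_monomial_coeff, map_sum]
    refine Finset.sum_eq_zero fun d hd => ?_
    rw [hT, if_neg (not_lt.mpr ((MvPolynomial.mem_pow_idealOfVars_iff n q).mp hq d hd))]
  have hTmk : ∀ q, q - T q ∈ I ^ n := fun q => by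
    induction q using MvPolynomial.induction_on' with
    | monomial d r =>
      rw [hT]
      split_ifs with h
      · simp
      · rw [sub_zero]
        rcases eq_or_ne r 0 with rfl | hr
        · simp
        · exact (MvPolynomial.monomial_mem_pow_idealOfVars_iff n d hr).mpr (not_lt.mp h)
    | add p q hp hq => rw [map_add, add_sub_add_comm]; exact add_mem hp hq
  let T' : (MvPolynomial (Fin m) A ⧸ I ^ n) →ₗ[A] MvPolynomial (Fin m) A :=
    Submodule.liftQ ((I ^ n).restrictScalars A) T (fun q hq => hT0 q hq) ∘ₗ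
      (Submodule.Quotient.restrictScalarsEquiv A (I ^ n)).symm.toLinearMap
  refine Module.Projective.of_split (T' ∘ₗ g'.toLinearMap) ((Ideal.Quotient.mkₐ A (J ^ n)).comp f).toLinearMap ?_
  refine LinearMap.ext fun y => ?_
  obtain ⟨b, rfl⟩ := Ideal.Quotient.mk_surjective y
  obtain ⟨q, hq⟩ := Ideal.Quotient.mk_surjective (g b)
  show Ideal.Quotient.mk (J ^ n) (f (T' (g b))) = Ideal.Quotient.mk (J ^ n) b
  rw [← hq, show T' (Ideal.Quotient.mk _ q) = T q from rfl, ← hg b, ← hq, ← hπ]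
  congr 1
  exact (Ideal.Quotient.eq.mpr (hTmk q)).symm

set_option maxHeartbeats 1000000 in
theorem exists_kills_of_model [Algebra.Smooth A E] (ε : E →ₐ[A] A) (A₁ B₁ : Type u) [CommRing A₁]
    [IsNoetherianRing A₁] [CommRing B₁] [Algebra A₁ A] (hinj : Function.Injective (algebraMap A₁ A)) [Algebra A₁ B₁]
    [Algebra.Smooth A₁ B₁] (e : E ≃ₐ[A] A ⊗[A₁] B₁) (ε₁ : B₁ →ₐ[A₁] A₁)
    (hε : ∀ b, ε (e.symm (1 ⊗ₜ b)) = algebraMap A₁ A (ε₁ b)) (x : E) (x₁ : B₁) (hx₁ : e x = 1 ⊗ₜ x₁)
    (hx : ∀ n, x ∈ RingHom.ker ε ^ n) : ∃ u, ε u = 1 ∧ u * x = 0 := by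
  classical
  haveI : IsNoetherianRing B₁ := Algebra.FiniteType.isNoetherianRing A₁ B₁
  have hmem : ∀ n, x₁ ∈ RingHom.ker ε₁ ^ n := fun n => by
    haveI : Module.Projective A₁ (B₁ ⧸ RingHom.ker ε₁ ^ n) := projective_quot ε₁ n
    let π : B₁ →ₐ[A₁] B₁ ⧸ RingHom.ker ε₁ ^ n := Ideal.Quotient.mkₐ A₁ _
    let ρ : A ⊗[A₁] B₁ →ₐ[A] A ⊗[A₁] (B₁ ⧸ RingHom.ker ε₁ ^ n) := Algebra.TensorProduct.map (AlgHom.id A A) π
    let K : Ideal (A ⊗[A₁] (B₁ ⧸ RingHom.ker ε₁ ^ n)) :=
      ((RingHom.ker ε₁).map π).map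
        (Algebra.TensorProduct.includeRight (R := A₁) (A := A) (B := B₁ ⧸ RingHom.ker ε₁ ^ n))
    have hK : K ^ n = ⊥ := by
      rw [← Ideal.map_pow, ← Ideal.map_pow,
        show (RingHom.ker ε₁ ^ n).map π = ⊥ from Ideal.map_quotient_self _, Ideal.map_bot]
    have hsub : ∀ w : A ⊗[A₁] B₁, ρ w - algebraMap A _ (ε (e.symm w)) ∈ K := fun w => by
      induction w using TensorProduct.induction_on with
      | zero => simp
      | add p q hp hq =>
        simp only [map_add, add_sub_add_comm]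
        exact add_mem hp hq
      | tmul a b =>
        have hb : b - algebraMap A₁ B₁ (ε₁ b) ∈ RingHom.ker ε₁ := by
          rw [RingHom.mem_ker, map_sub, AlgHom.commutes, Algebra.algebraMap_self, RingHom.id_apply, sub_self]
        have hK1 := Ideal.mem_map_of_mem
          (Algebra.TensorProduct.includeRight (R := A₁) (A := A) (B := B₁ ⧸ RingHom.ker ε₁ ^ n))
          (Ideal.mem_map_of_mem π hb)
        have e1 : a ⊗ₜ[A₁] b = algebraMap A (A ⊗[A₁] B₁) a * ((1 : A) ⊗ₜ[A₁] b) := by simp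
        rw [e1, map_mul ρ, map_mul e.symm, map_mul ε, AlgEquiv.commutes, AlgHom.commutes, AlgHom.commutes, hε, map_mul,
          Algebra.algebraMap_self, RingHom.id_apply, ← mul_sub]
        refine Ideal.mul_mem_left _ _ ?_
        convert hK1 using 1
        rw [map_sub, map_sub, AlgHom.commutes, AlgHom.commutes]
        congr 1
    have h0 : ρ (e x) = 0 := by
      have h1 : (RingHom.ker ε).map (ρ.toRingHom.comp (e : E ≃+* A ⊗[A₁] B₁).toRingHom) ≤ K := by
        rw [Ideal.map_le_iff_le_comap]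
        intro b hb
        have := hsub (e b)
        rw [AlgEquiv.symm_apply_apply, RingHom.mem_ker.mp hb, map_zero, sub_zero] at this
        exact this
      have h2 := Ideal.pow_right_mono h1 n
        ((Ideal.map_pow (ρ.toRingHom.comp (e : E ≃+* A ⊗[A₁] B₁).toRingHom) _ n).le (Ideal.mem_map_of_mem _ (hx n)))
      rw [hK, Ideal.mem_bot] at h2
      exact h2
    have hi := Module.Flat.rTensor_preserves_injective_linearMap (M := B₁ ⧸ RingHom.ker ε₁ ^ n)
      (Algebra.linearMap A₁ A) hinj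
    have h3 : (1 : A₁) ⊗ₜ[A₁] π x₁ = 0 := by
      apply hi
      rw [map_zero, LinearMap.rTensor_tmul, ← h0, hx₁]
      simp [ρ]
    have h4 := congrArg (TensorProduct.lid A₁ _) h3
    rw [TensorProduct.lid_tmul, one_smul, map_zero] at h4
    exact Ideal.Quotient.eq_zero_iff_mem.mp h4
  obtain ⟨⟨r, hr⟩, hrx⟩ := (Ideal.mem_iInf_smul_pow_eq_bot_iff (RingHom.ker ε₁) x₁).mp (by
    rw [Submodule.mem_iInf]
    intro n
    rw [smul_eq_mul, Ideal.mul_top]
    exact hmem n)
  refine ⟨e.symm (1 ⊗ₜ (1 - r)), ?_, ?_⟩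
  · rw [hε, map_sub, map_one, RingHom.mem_ker.mp hr, sub_zero, map_one]
  · apply e.injective
    rw [map_mul, AlgEquiv.apply_symm_apply, map_zero, hx₁, Algebra.TensorProduct.tmul_mul_tmul, sub_mul, one_mul,
      one_mul, show r * x₁ = x₁ from hrx, sub_self, TensorProduct.tmul_zero]

set_option maxHeartbeats 1000000 in
/-- An element vanishing to all orders along a section is killed by an element which is `1` along the section. -/
theorem exists_kills [Algebra.Smooth A E] (ε : E →ₐ[A] A) (x : E) (hx : ∀ n, x ∈ RingHom.ker ε ^ n) :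
    ∃ u, ε u = 1 ∧ u * x = 0 := by
  classical
  obtain ⟨A₀, B₀, _, _, hA₀, _, ⟨e⟩⟩ := Algebra.Smooth.exists_subalgebra_fg ℤ A E
  haveI : IsNoetherianRing A₀ := by
    haveI : Algebra.FiniteType ℤ A₀ := (Subalgebra.fg_iff_finiteType A₀).mp hA₀
    exact Algebra.FiniteType.isNoetherianRing ℤ A₀
  let ψ : B₀ →ₐ[A₀] A :=
    ((ε.comp e.symm.toAlgHom).restrictScalars A₀).comp Algebra.TensorProduct.includeRight
  obtain ⟨G, hG⟩ := (inferInstance : Algebra.FiniteType A₀ B₀).out
  obtain ⟨P, hP⟩ := TensorProduct.exists_finset (e x)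
  let A₁ : Subalgebra A₀ A := Algebra.adjoin A₀ (↑(G.image ψ ∪ P.image Prod.fst) : Set A)
  haveI : Algebra.FiniteType A₀ A₁ := (Subalgebra.fg_iff_finiteType A₁).mp ⟨_, rfl⟩
  haveI : IsNoetherianRing A₁ := Algebra.FiniteType.isNoetherianRing A₀ A₁
  have hψ : ∀ b, ψ b ∈ A₁ := fun b => by
    have hb : b ∈ Algebra.adjoin A₀ (G : Set B₀) := hG ▸ Algebra.mem_top
    have : ψ b ∈ (Algebra.adjoin A₀ (G : Set B₀)).map ψ := ⟨b, hb, rfl⟩
    rw [AlgHom.map_adjoin] at this
    refine Algebra.adjoin_mono ?_ this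
    rw [Finset.coe_union, Finset.coe_image]
    exact Set.subset_union_left
  let ε₁ : A₁ ⊗[A₀] B₀ →ₐ[A₁] A₁ :=
    Algebra.TensorProduct.lift (Algebra.ofId A₁ A₁) (ψ.codRestrict A₁ hψ) fun _ _ => Commute.all _ _
  let e' : E ≃ₐ[A] A ⊗[A₁] (A₁ ⊗[A₀] B₀) :=
    e.trans (Algebra.TensorProduct.cancelBaseChange A₀ A₁ A A B₀).symm
  have he' : ∀ (r : A) (a : A₁) b, e'.symm (r ⊗ₜ (a ⊗ₜ b)) = e.symm ((r * (a : A)) ⊗ₜ b) := fun r a b => by
    simp [e', Algebra.smul_def, Subalgebra.algebraMap_def, mul_comm]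
  let x₁ : A₁ ⊗[A₀] B₀ := ∑ p ∈ P.attach,
    (⟨p.1.1, Algebra.subset_adjoin (Finset.mem_coe.mpr (Finset.mem_union_right _
      (Finset.mem_image_of_mem Prod.fst p.2)))⟩ : A₁) ⊗ₜ p.1.2
  refine exists_kills_of_model ε A₁ (A₁ ⊗[A₀] B₀) Subtype.val_injective e' ε₁ (fun z => ?_) x x₁ ?_ hx
  swap
  on_goal 2 =>
    induction z using TensorProduct.induction_on with
    | zero => simp
    | add p q hp hq => simp only [TensorProduct.tmul_add, map_add, hp, hq]
    | tmul a b =>
      rw [he', one_mul, show (a : A) ⊗ₜ[A₀] b = (a : A) • ((1 : A) ⊗ₜ[A₀] b) by simp [TensorProduct.smul_tmul'],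
        map_smul, map_smul, smul_eq_mul, show ε₁ (a ⊗ₜ b) = a * ψ.codRestrict A₁ hψ b by simp [ε₁, Algebra.ofId_apply],
        map_mul]
      rfl
  apply e'.symm.injective
  rw [AlgEquiv.symm_apply_apply, TensorProduct.tmul_sum, map_sum, ← e.symm_apply_apply x, hP, map_sum,
    ← P.sum_attach (fun i => e.symm (i.1 ⊗ₜ[A₀] i.2))]
  exact Finset.sum_congr rfl fun p _ => (by rw [he', one_mul])

end Groth.Agent.SmoothWeilLib
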